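import Cfsg.Agent.Lib.RelativeMcKay.Corr
import Cfsg.Agent.Lib.Coprime.Quotient
import Mathlib.RingTheory.IntegralDomain

/-!
# Commutator sums are preserved by the Glauberman correspondence

`omega_eq_of_isCorr`: if `φ` corresponds to `θ` with respect to the `p`-group `S`, and `a, b` lie
in a `p'`-group normalising `S` and `K`, fix `θ`, and commute modulo `C_K(S)`, then the normalised
commutator sums of `θ` and `φ` at `(a, b)` agree.
-/

set_option autoImplicit false
set_option linter.style.haveILetI false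
set_option linter.unusedSectionVars false
set_option linter.deprecated false

namespace Cfsg.Agent.RelMcKay

open Cfsg Cfsg.Agent.Glauberman
open scoped ComplexConjugate commutatorElement

attribute [local instance high] Fintype.ofFinite

universe u

/-- Two commuting automorphisms acting irreducibly on an abelian group generate a cyclic group. -/
theorem exists_common_generator {Q : Type u} [CommGroup Q] [Finite Q] [Nontrivial Q]
    (α β : MulAut Q) (hc : Commute α β)
    (hirr : ∀ U : Subgroup Q, (∀ q ∈ U, α q ∈ U) → (∀ q ∈ U, β q ∈ U) → U = ⊥ ∨ U = ⊤) :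
    ∃ (γ : MulAut Q) (i j : ℕ), α = γ ^ i ∧ β = γ ^ j := by
  let toEnd : MulAut Q →* AddMonoid.End (Additive Q) :=
    { toFun := fun x => MonoidHom.toAdditive x.toMonoidHom
      map_one' := rfl
      map_mul' := fun _ _ => rfl }
  have hcomm : ∀ x ∈ ({toEnd α, toEnd β} : Set (AddMonoid.End (Additive Q))),
      ∀ y ∈ ({toEnd α, toEnd β} : Set (AddMonoid.End (Additive Q))), x * y = y * x := by
    intro x hx y hy
    simp only [Set.mem_insert_iff, Set.mem_singleton_iff] at hx hy
    rcases hx with rfl | rfl <;> rcases hy with rfl | rfl <;>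
      first
        | rfl
        | exact hc.map toEnd
        | exact hc.symm.map toEnd
  set R := Subring.closure ({toEnd α, toEnd β} : Set (AddMonoid.End (Additive Q)))
  letI : CommRing R := Subring.closureCommRingOfComm hcomm
  have hinj : Function.Injective toEnd := fun x y h => MulEquiv.ext fun q => by
    have := DFunLike.congr_fun h (Additive.ofMul q)
    exact Additive.ofMul.injective this
  have hαR : toEnd α ∈ R := Subring.subset_closure (by simp)
  have hβR : toEnd β ∈ R := Subring.subset_closure (by simp)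
  haveI : Nontrivial R := by
    obtain ⟨q, hq⟩ := exists_ne (1 : Q)
    exact ⟨⟨1, 0, fun h => hq (Additive.ofMul.injective
      (DFunLike.congr_fun (congrArg Subtype.val h) (Additive.ofMul q)))⟩⟩
  haveI : NoZeroDivisors R := ⟨by
    intro r s hrs
    by_contra h
    push Not at h
    -- a nonzero element is injective
    have hker : ∀ q : Q, (r : AddMonoid.End (Additive Q)) (Additive.ofMul q) = 0 → q = 1 := by
      let U : Subgroup Q :=
        { carrier := {q | (r : AddMonoid.End (Additive Q)) (Additive.ofMul q) = 0}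
          one_mem' := map_zero _
          mul_mem' := fun {x y} hx hy => by
            show (r : AddMonoid.End (Additive Q)) (Additive.ofMul x + Additive.ofMul y) = 0
            rw [map_add, show (r : AddMonoid.End (Additive Q)) (Additive.ofMul x) = 0 from hx,
              show (r : AddMonoid.End (Additive Q)) (Additive.ofMul y) = 0 from hy, add_zero]
          inv_mem' := fun {x} hx => by
            show (r : AddMonoid.End (Additive Q)) (-Additive.ofMul x) = 0
            rw [map_neg, show (r : AddMonoid.End (Additive Q)) (Additive.ofMul x) = 0 from hx,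
              neg_zero] }
      have hstab : ∀ x : MulAut Q, toEnd x ∈ R → ∀ q ∈ U, x q ∈ U := by
        intro x hx q hq
        have e := congrArg Subtype.val (mul_comm r (⟨toEnd x, hx⟩ : R))
        have e' := DFunLike.congr_fun e (Additive.ofMul q)
        refine (show (r : AddMonoid.End (Additive Q)) (Additive.ofMul (x q)) = 0 from ?_)
        refine e'.trans ?_
        show toEnd x ((r : AddMonoid.End (Additive Q)) (Additive.ofMul q)) = 0
        rw [show (r : AddMonoid.End (Additive Q)) (Additive.ofMul q) = 0 from hq, map_zero]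
      rcases hirr U (hstab α hαR) (hstab β hβR) with hU | hU
      · intro q hq
        have hq' : q ∈ U := hq
        rwa [hU, Subgroup.mem_bot] at hq'
      · refine absurd (Subtype.ext (AddMonoidHom.ext fun q => ?_)) h.1
        have hq' : Additive.toMul q ∈ U := hU ▸ Subgroup.mem_top _
        exact hq'
    refine h.2 (Subtype.ext (AddMonoidHom.ext fun q => ?_))
    have e := DFunLike.congr_fun (congrArg Subtype.val hrs) q
    exact Additive.toMul.injective (hker _ e)⟩
  haveI : IsDomain R := NoZeroDivisors.to_isDomain R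
  set A := Subgroup.closure ({α, β} : Set (MulAut Q))
  have hA : ∀ x ∈ A, toEnd x ∈ R := by
    intro x hx
    refine Subgroup.closure_induction_left (p := fun y _ => toEnd y ∈ R) (by
      rw [map_one]; exact one_mem R) ?_ ?_ hx
    · intro y hy z _ hz
      rw [map_mul]
      exact mul_mem (Subring.subset_closure (by
        rcases hy with rfl | rfl <;> simp)) hz
    · intro y hy z _ hz
      rw [map_mul]
      refine mul_mem ?_ hz
      have hy' : toEnd y ∈ R := Subring.subset_closure (by rcases hy with rfl | rfl <;> simp)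
      rw [show (y⁻¹ : MulAut Q) = y ^ (orderOf y - 1) by
        rw [inv_eq_iff_mul_eq_one, ← pow_succ', Nat.sub_add_cancel
          (orderOf_pos y), pow_orderOf_eq_one], map_pow]
      exact pow_mem hy' _
  let f : A →* R :=
    { toFun := fun x => ⟨toEnd x, hA x x.2⟩
      map_one' := Subtype.ext (map_one toEnd)
      map_mul' := fun x y => Subtype.ext (map_mul toEnd (x : MulAut Q) (y : MulAut Q)) }
  haveI : IsCyclic A := isCyclic_of_injective_ringHom f fun x y h =>
    Subtype.ext (hinj (congrArg Subtype.val h))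
  obtain ⟨γ, hγ⟩ := IsCyclic.exists_monoid_generator (α := A)
  obtain ⟨i, hi⟩ := hγ ⟨α, Subgroup.subset_closure (by simp)⟩
  obtain ⟨j, hj⟩ := hγ ⟨β, Subgroup.subset_closure (by simp)⟩
  exact ⟨γ, i, j, by simpa using (congrArg Subtype.val hi).symm,
    by simpa using (congrArg Subtype.val hj).symm⟩

/-- Roots of unity of order prime to `p` congruent modulo `p` are equal. -/
theorem eq_one_of_pCong {p : ℕ} [Fact p.Prime] {n : ℕ} (hn : ¬ p ∣ n) {x : ℂ} (hx : x ^ n = 1)
    (h : PCong p x 1) : x = 1 := by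
  by_contra hne
  have hint : IsIntegral ℤ x :=
    IsIntegral.of_pow (n := n) (Nat.pos_of_ne_zero fun h0 => hn (by rw [h0]; exact dvd_zero p))
      (by rw [hx]; exact isIntegral_one)
  have hpow : ∀ i : ℕ, PCong p (x ^ i) 1 := by
    intro i
    induction i with
    | zero => exact PCong.of_eq (pow_zero x)
    | succ i ih =>
      have := (ih.mul_right hint).trans (PCong.of_eq (one_mul x))
      rw [← pow_succ] at this
      exact this.trans h
  have hsum := PCong.sum (p := p) (Finset.range n) fun i _ => hpow i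
  rw [geom_sum_eq hne, hx, sub_self, zero_div] at hsum
  exact not_pCong_zero_of_not_dvd hn ((PCong.of_eq (by simp)).trans hsum.symm)

variable {G : Type u} [Group G] [Finite G]

theorem le_normalizer_sup_zpowers {K : Subgroup G} {a : G}
    (ha : a ∈ Subgroup.normalizer (K : Set G)) :
    K ⊔ Subgroup.zpowers a ≤ Subgroup.normalizer (K : Set G) :=
  sup_le Subgroup.le_normalizer (Subgroup.zpowers_le.2 ha)

theorem exists_eq_mul_pow {K : Subgroup G} {a : G}
    (ha : a ∈ Subgroup.normalizer (K : Set G)) {x : G} (hx : x ∈ K ⊔ Subgroup.zpowers a) :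
    ∃ k ∈ K, ∃ i : ℕ, x = k * a ^ i := by
  rw [sup_comm, Coprime.mem_sup_iff_of_le_normalizer' (Subgroup.zpowers_le.2 ha)] at hx
  obtain ⟨k, hk, y, hy, rfl⟩ := hx
  obtain ⟨i, rfl⟩ := mem_powers_iff_mem_zpowers.2 hy
  exact ⟨k, hk, i, rfl⟩

theorem not_dvd_card_sup {p : ℕ} [hp : Fact p.Prime] {K : Subgroup G} {a : G}
    (hK : ¬ p ∣ Nat.card K) (ha : a ∈ Subgroup.normalizer (K : Set G)) (hao : ¬ p ∣ orderOf a) :
    ¬ p ∣ Nat.card (K ⊔ Subgroup.zpowers a : Subgroup G) := by
  intro hd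
  have h1 : K.relIndex (K ⊔ Subgroup.zpowers a) ∣ orderOf a := by
    rw [sup_comm, Coprime.relIndex_sup_right_of_le_normalizer (Subgroup.zpowers_le.2 ha),
      ← Nat.card_zpowers]
    exact Subgroup.index_dvd_card _
  have h2 : Nat.card K * K.relIndex (K ⊔ Subgroup.zpowers a) =
      Nat.card (K ⊔ Subgroup.zpowers a : Subgroup G) := by
    rw [← Coprime.card_subgroupOf (le_sup_left : K ≤ K ⊔ Subgroup.zpowers a)]
    exact (K.subgroupOf (K ⊔ Subgroup.zpowers a)).card_mul_index
  rw [← h2] at hd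
  exact (hp.out.dvd_mul.1 hd).elim hK fun h => hao (h.trans h1)

/-- An element of the normaliser fixing `θ` gives an extension. -/
theorem exists_ext (K : Subgroup G) (θ : IrrCharacter K) {a : G}
    (ha : a ∈ Subgroup.normalizer (K : Set G)) (hfa : Fixes (extendByZero K θ.1) a) :
    ∃ χ : IrrCharacter (K ⊔ Subgroup.zpowers a : Subgroup G),
      ∀ k : K, χ.1 (Subgroup.inclusion le_sup_left k) = θ.1 k := by
  classical
  set I := K ⊔ Subgroup.zpowers a
  have hKI : K ≤ I := le_sup_left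
  have hn : I ≤ Subgroup.normalizer (K : Set G) := le_normalizer_sup_zpowers ha
  haveI := Coprime.normal_subgroupOf_of_le_normalizer hn
  haveI : IsCyclic (I ⧸ K.subgroupOf I) := by
    refine ⟨⟨((⟨a, Subgroup.mem_sup_right (Subgroup.mem_zpowers a)⟩ : I) : I ⧸ K.subgroupOf I),
      fun q => ?_⟩⟩
    obtain ⟨x, rfl⟩ := QuotientGroup.mk_surjective q
    obtain ⟨k, hk, i, hx⟩ := exists_eq_mul_pow ha x.2
    refine ⟨(i : ℤ), ?_⟩
    show ((⟨a, _⟩ : I) : I ⧸ K.subgroupOf I) ^ (i : ℤ) = _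
    rw [zpow_natCast, ← QuotientGroup.mk_pow, show x = (⟨k, hKI hk⟩ : I) *
      (⟨a, Subgroup.mem_sup_right (Subgroup.mem_zpowers a)⟩ : I) ^ i from Subtype.ext (by simpa using hx),
      QuotientGroup.mk_mul, (QuotientGroup.eq_one_iff (⟨k, hKI hk⟩ : I)).2
        (Subgroup.mem_subgroupOf.2 hk), one_mul]
  obtain ⟨d, σ, hσ, hσχ⟩ := (Char.toSubgroupOf K hKI θ).2
  haveI := hσ
  have hstab : I ≤ stab (extendByZero K θ.1) :=
    sup_le (fun k hk => fixes_of_mem θ hk) (Subgroup.zpowers_le.2 hfa)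
  obtain ⟨ρ, hρ⟩ := Clifford.exists_extension_of_cyclic σ fun g x => by
    rw [hσχ]
    have h := (fixes_ext0_iff (hn g.2) θ.1).1 (hstab g.2) ⟨_, Subgroup.mem_subgroupOf.1 x.2⟩
    exact h
  refine ⟨⟨ρ.character, Char.isIrrCharacter_character ρ
    (Clifford.isIrreducible_of_restrict σ ρ hρ)⟩, fun k => ?_⟩
  show ρ.character ((⟨⟨k, hKI k.2⟩, k.2⟩ : K.subgroupOf I) : I) = _
  rw [Representation.character, hρ]
  exact congrFun hσχ _

/-- An irreducible character of `C⟨a⟩` with an `a`-fixed constituent `φ` extends it. -/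
theorem res_eq_of_constituent (C : Subgroup G) (φ : IrrCharacter C) {a : G}
    (ha : a ∈ Subgroup.normalizer (C : Set G)) (hfa : Fixes (extendByZero C φ.1) a)
    (ψ : IrrCharacter (C ⊔ Subgroup.zpowers a : Subgroup G))
    (h : resMult le_sup_left ψ φ ≠ 0) :
    ∀ k : C, ψ.1 (Subgroup.inclusion le_sup_left k) = φ.1 k := by
  classical
  have hn : (C ⊔ Subgroup.zpowers a : Subgroup G) ≤ Subgroup.normalizer (C : Set G) := le_normalizer_sup_zpowers ha
  haveI := Coprime.normal_subgroupOf_of_le_normalizer hn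
  obtain ⟨ξ, hξ⟩ := exists_ext C φ ha hfa
  have hCI : C ≤ (C ⊔ Subgroup.zpowers a : Subgroup G) := le_sup_left
  have hr : Char.resFun (C.subgroupOf (C ⊔ Subgroup.zpowers a : Subgroup G)) ξ.1 = (Char.toSubgroupOf C hCI φ).1 :=
    funext fun x => hξ ⟨_, Subgroup.mem_subgroupOf.1 x.2⟩
  obtain ⟨β, hβ⟩ := Char.exists_mulQuotient_eq (C.subgroupOf (C ⊔ Subgroup.zpowers a : Subgroup G)) ξ
    (by rw [hr]; exact (Char.toSubgroupOf C hCI φ).2) ψ (by
      rw [hr]
      intro h0
      refine h ?_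
      apply Nat.cast_injective (R := ℂ)
      rw [Nat.cast_zero, ← resMult_eq, ← h0]
      simp only [classInner, Nat.card_congr (Subgroup.subgroupOfEquivOfLe hCI).toEquiv]
      congr 1
      refine Fintype.sum_equiv (Subgroup.subgroupOfEquivOfLe hCI).symm.toEquiv
        (fun x : C => ψ.1 (Subgroup.inclusion _ x) * conj (φ.1 x)) _ fun x => ?_
      rfl)
  have hβ1 : β.1 1 = 1 := by
    refine Char.apply_one_of_comm ?_ β
    have hgen : ∀ q : (C ⊔ Subgroup.zpowers a : Subgroup G) ⧸ C.subgroupOf (C ⊔ Subgroup.zpowers a : Subgroup G), ∃ i : ℕ,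
        q = ((⟨a, Subgroup.mem_sup_right (Subgroup.mem_zpowers a)⟩ : (C ⊔ Subgroup.zpowers a : Subgroup G)) : (C ⊔ Subgroup.zpowers a : Subgroup G) ⧸ C.subgroupOf (C ⊔ Subgroup.zpowers a : Subgroup G)) ^ i := by
      intro q
      obtain ⟨x, rfl⟩ := QuotientGroup.mk_surjective q
      obtain ⟨k, hk, i, hx⟩ := exists_eq_mul_pow ha x.2
      refine ⟨i, ?_⟩
      rw [← QuotientGroup.mk_pow, show x = (⟨k, hCI hk⟩ : (C ⊔ Subgroup.zpowers a : Subgroup G)) *
        (⟨a, Subgroup.mem_sup_right (Subgroup.mem_zpowers a)⟩ : (C ⊔ Subgroup.zpowers a : Subgroup G)) ^ i from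
        Subtype.ext (by simpa using hx), QuotientGroup.mk_mul,
        (QuotientGroup.eq_one_iff (⟨k, hCI hk⟩ : (C ⊔ Subgroup.zpowers a : Subgroup G))).2 (Subgroup.mem_subgroupOf.2 hk), one_mul]
    intro x y
    obtain ⟨i, rfl⟩ := hgen x
    obtain ⟨j, rfl⟩ := hgen y
    rw [← pow_add, ← pow_add, add_comm]
  intro k
  rw [← hβ, Char.mulQuotient_apply,
    (QuotientGroup.eq_one_iff (Subgroup.inclusion hCI k)).2 (Subgroup.mem_subgroupOf.2 k.2), hβ1,
    mul_one, hξ]

variable {p : ℕ} [hp : Fact p.Prime]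

/-- The case in which `a` centralises the `p`-group. -/
theorem omega_eq_of_centralizes (T K C : Subgroup G) (hT : IsPGroup p T) (hK : ¬ p ∣ Nat.card K)
    (hTK : T ≤ Subgroup.normalizer (K : Set G)) (hC : C = K ⊓ Subgroup.centralizer (T : Set G))
    (hCK : C ≤ K) (θ : IrrCharacter K) (φ : IrrCharacter C)
    (hfix : ∀ t ∈ T, Fixes (extendByZero K θ.1) t) (hcorr : IsCorr p hCK θ φ) {a b : G}
    (haT : a ∈ Subgroup.centralizer (T : Set G)) (hao : ¬ p ∣ orderOf a)
    (haK : a ∈ Subgroup.normalizer (K : Set G)) (hbK : b ∈ Subgroup.normalizer (K : Set G))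
    (hbT : b ∈ Subgroup.normalizer (T : Set G)) (hab : ⁅a, b⁆ ∈ C)
    (hfa : Fixes (extendByZero K θ.1) a) (hfb : Fixes (extendByZero K θ.1) b) :
    omega K θ a b = omega C φ a b := by
  classical
  have haT' : a ∈ Subgroup.normalizer (T : Set G) := Subgroup.centralizer_le_normalizer _ haT
  have haC := normalizes_fix hC haT' haK
  have hbC := normalizes_fix hC hbT hbK
  have hφa := (isCorr_fixes_iff hT hK hTK hC hCK hfix hcorr haT' haK).1 hfa
  have hφb := (isCorr_fixes_iff hT hK hTK hC hCK hfix hcorr hbT hbK).1 hfb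
  set I := K ⊔ Subgroup.zpowers a with hI
  set CI := C ⊔ Subgroup.zpowers a with hCI
  have hKI : K ≤ I := le_sup_left
  obtain ⟨χ, hχ⟩ : ∃ χ : IrrCharacter I,
      ∀ k : K, χ.1 (Subgroup.inclusion hKI k) = θ.1 k := exists_ext K θ haK hfa
  have hCCI : C ≤ CI := le_sup_left
  have hCII : CI ≤ I := sup_le_sup_right hCK _
  have haI : a ∈ I := Subgroup.mem_sup_right (Subgroup.mem_zpowers a)
  have hnI : I ≤ Subgroup.normalizer (K : Set G) := le_normalizer_sup_zpowers haK
  have hpI : ¬ p ∣ Nat.card I := not_dvd_card_sup hK haK hao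
  have hTI : T ≤ Subgroup.normalizer (I : Set G) := by
    intro t ht
    refine Subgroup.normalizer_inf_normalizer_le_normalizer_sup K _ ⟨hTK ht, ?_⟩
    refine Subgroup.centralizer_le_normalizer _ (Subgroup.mem_centralizer_iff.2 ?_)
    intro y hy
    obtain ⟨i, rfl⟩ := hy
    exact (Commute.zpow_left
      (Subgroup.mem_centralizer_iff.1 haT t ht).symm i)
  -- the extension is fixed by `T`
  have hfixI : ∀ t ∈ T, Fixes (extendByZero I χ.1) t := by
    intro t ht
    have hat : ⁅a, t⁆ = 1 := commutatorElement_eq_one_iff_mul_comm.2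
      (Subgroup.mem_centralizer_iff.1 haT t ht).symm
    have hatK : ⁅a, t⁆ ∈ K := hat ▸ one_mem K
    obtain ⟨η, hη1, hη⟩ : ∃ η : ℂ, η ^ Nat.card I = 1 ∧ ∀ k : K,
        extendByZero I χ.1 (t * (a * k) * t⁻¹) = η * extendByZero I χ.1 (a * k) :=
      exists_scalar θ hI χ hKI hχ haK (hTK ht) hatK (hfix t ht)
    have hiter : ∀ (n : ℕ) (k : K), extendByZero I χ.1 (t ^ n * (a * k) * (t ^ n)⁻¹) =
        η ^ n * extendByZero I χ.1 (a * k) := by
      intro n
      induction n with
      | zero => intro k; simp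
      | succ n ih =>
        intro k
        have h1 := ih (conjK (hTK ht) k)
        have e : a * ((conjK (hTK ht) k : K) : G) = t * (a * k) * t⁻¹ := by
          rw [coe_conjK, show t * (a * (k : G)) * t⁻¹ = (t * a) * k * t⁻¹ by group,
            Subgroup.mem_centralizer_iff.1 haT t ht]
          group
        rw [e, hη k] at h1
        rw [pow_succ η, mul_assoc (η ^ n), ← h1]
        congr 1
        group
    obtain ⟨e, he⟩ := hT ⟨t, ht⟩
    have he' : t ^ p ^ e = 1 := congrArg Subtype.val he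
    have hηp : η ^ p ^ e = 1 := by
      refine eq_of_mul_ext_eq hKI hnI θ χ hχ ⟨a, haI⟩ fun k => ?_
      have h1 := hiter (p ^ e) k
      rw [he', one_mul, inv_one, mul_one,
        show a * (k : G) = (((⟨a, haI⟩ : I) * Subgroup.inclusion hKI k : I) : G) from rfl,
        ext0_coe] at h1
      rw [← h1, one_mul]
    have hη0 : η = 1 := by
      have hcop : Nat.Coprime (p ^ e) (Nat.card I) :=
        ((hp.out.coprime_iff_not_dvd).2 hpI).pow_left e
      have := pow_gcd_eq_one.2 ⟨hηp, hη1⟩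
      rwa [hcop.gcd_eq_one, pow_one] at this
    obtain ⟨β, hβK, hβ⟩ := exists_twist hKI hnI θ χ (conjIrr (hTI ht) χ) hχ fun k => by
      rw [conjIrr_apply, show conjK (hTI ht) (Subgroup.inclusion hKI k) =
        Subgroup.inclusion hKI (conjK (hTK ht) k) from Subtype.ext rfl, hχ]
      exact (fixes_ext0_iff (hTK ht) θ.1).1 (hfix t ht) k
    have hβa : β ⟨a, haI⟩ = 1 := by
      refine eq_of_mul_ext_eq hKI hnI θ χ hχ ⟨a, haI⟩ fun k => ?_
      have h1 := hη k
      have h2 := hβ (⟨a, haI⟩ * Subgroup.inclusion hKI k)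
      rw [conjIrr_apply, map_mul β, hβK, mul_one] at h2
      rw [hη0, one_mul,
        show a * (k : G) = (((⟨a, haI⟩ : I) * Subgroup.inclusion hKI k : I) : G) from rfl,
        ← coe_conjK (hTI ht), ext0_coe, ext0_coe, h2] at h1
      rw [one_mul, mul_comm]
      exact h1
    refine (fixes_ext0_iff (hTI ht) χ.1).2 fun i => ?_
    obtain ⟨k, hk, m, hkm⟩ := exists_eq_mul_pow haK i.2
    have h2 := hβ i
    rw [conjIrr_apply] at h2
    rw [h2, show i = Subgroup.inclusion hKI ⟨k, hk⟩ * (⟨a, haI⟩ : I) ^ m from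
      Subtype.ext (by simpa using hkm), map_mul β, map_pow β, hβK, hβa, one_pow, mul_one, mul_one]
  -- the fixed points in `K⟨a⟩`
  have hCIfix : CI = I ⊓ Subgroup.centralizer (T : Set G) := by
    refine le_antisymm (le_inf hCII (sup_le (hC ▸ inf_le_right) (Subgroup.zpowers_le.2 haT))) ?_
    rintro x ⟨hx, hxT⟩
    obtain ⟨k, hk, i, rfl⟩ := exists_eq_mul_pow haK hx
    have hkT : k ∈ Subgroup.centralizer (T : Set G) := by
      have := Subgroup.mul_mem _ hxT (Subgroup.inv_mem _ (Subgroup.pow_mem _ haT i))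
      rwa [mul_inv_cancel_right] at this
    exact mul_mem (Subgroup.mem_sup_left (hC ▸ ⟨hk, hkT⟩))
      (Subgroup.mem_sup_right (pow_mem (Subgroup.mem_zpowers a) i))
  obtain ⟨ψ, hψ⟩ := exists_isCorr hT hpI hTI hCIfix hCII χ hfixI
  set m := resMult hCII χ ψ with hm
  have hψφ : ¬ p ∣ resMult hCCI ψ φ := by
    have h1 : resMult (hCCI.trans hCII) χ φ = resMult hCK θ φ := by
      apply Nat.cast_injective (R := ℂ)
      rw [← resMult_eq, ← resMult_eq]
      congr 1
      funext c
      exact hχ (Subgroup.inclusion hCK c)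
    rw [resMult_trans hCII hCCI] at h1
    intro hd
    refine hcorr.not_dvd ?_
    rw [← h1]
    refine Finset.dvd_sum fun δ _ => ?_
    by_cases hδ : δ = ψ
    · exact hδ ▸ dvd_mul_of_dvd_right hd _
    · exact dvd_mul_of_dvd_left (by_contra fun hnd => hδ ((hψ δ).1 hnd)) _
  have hψres := res_eq_of_constituent C φ haC hφa ψ fun h0 => hψφ (h0 ▸ dvd_zero p)
  -- the scalars
  have habK : ⁅a, b⁆ ∈ K := hCK hab
  obtain ⟨η, hη1, hη⟩ := exists_scalar θ hI χ hKI hχ haK hbK habK hfb
  obtain ⟨η', hη'1, hη'⟩ := exists_scalar φ hCI ψ hCCI hψres haC hbC hab hφb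
  rw [omega_eq_scalar θ hKI hnI χ hχ haI hbK habK hη,
    omega_eq_scalar φ hCCI (le_normalizer_sup_zpowers haC) ψ hψres
      (Subgroup.mem_sup_right (Subgroup.mem_zpowers a)) hbC hab hη']
  have hpCI : ¬ p ∣ Nat.card CI := fun h => hpI (h.trans (Subgroup.card_dvd_of_le hCII))
  have hη'I : η' ^ Nat.card I = 1 := by
    obtain ⟨q, hq⟩ := Subgroup.card_dvd_of_le hCII
    rw [hq, pow_mul, hη'1, one_pow]
  have hI0 : 0 < Nat.card I := Nat.card_pos
  have hint : ∀ x : ℂ, x ^ Nat.card I = 1 → IsIntegral ℤ x := fun x hx =>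
    IsIntegral.of_pow hI0 (by rw [hx]; exact isIntegral_one)
  have hcong : ∀ k : C, PCong p
      ((m : ℂ) * η' * (extendByZero CI ψ.1 (a * k) * conj (extendByZero CI ψ.1 (a * k))))
      ((m : ℂ) * η * (extendByZero CI ψ.1 (a * k) * conj (extendByZero CI ψ.1 (a * k)))) := by
    intro k
    have hx : a * (k : G) ∈ CI :=
      mul_mem (Subgroup.mem_sup_right (Subgroup.mem_zpowers a)) (hCCI k.2)
    have hy : b * (a * k) * b⁻¹ ∈ CI :=
      conj_mem_of_commutator hab hCCI (Subgroup.mem_sup_right (Subgroup.mem_zpowers a)) k hbC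
    have h1 := hψ.pCong ⟨_, hx⟩
    have h2 := hψ.pCong ⟨_, hy⟩
    have e1 := hη (Subgroup.inclusion hCK k)
    have e2 := hη' k
    rw [Subgroup.coe_inclusion, Char.extendByZero_of_mem I _ (hCII hx),
      Char.extendByZero_of_mem I _ (hCII hy)] at e1
    rw [Char.extendByZero_of_mem CI _ hx, Char.extendByZero_of_mem CI _ hy] at e2
    rw [show Subgroup.inclusion hCII ⟨_, hy⟩ = (⟨_, hCII hy⟩ : I) from rfl, e1, e2] at h2
    have h3 := h1.mul_left (hint η hη1)
    have h4 := (h2.symm.trans h3).mul_right (isIntegral_conj_irr ψ ⟨_, hx⟩)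
    rw [Char.extendByZero_of_mem CI _ hx]
    refine ((PCong.of_eq ?_).trans h4).trans (PCong.of_eq ?_) <;> ring
  have hsum := PCong.sum (p := p) Finset.univ fun k (_ : k ∈ (Finset.univ : Finset C)) => hcong k
  have hnorm : ∑ k : C, extendByZero CI ψ.1 (a * k) * conj (extendByZero CI ψ.1 (a * k)) =
      (Nat.card C : ℂ) := by
    refine Eq.trans (Finset.sum_congr rfl fun k _ => ?_) (sum_coset_ext hCCI
      (le_normalizer_sup_zpowers haC) φ ψ hψres
      ⟨a, Subgroup.mem_sup_right (Subgroup.mem_zpowers a)⟩)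
    rw [show a * (k : G) = (((⟨a, Subgroup.mem_sup_right (Subgroup.mem_zpowers a)⟩ : CI) *
      Subgroup.inclusion hCCI k : CI) : G) from rfl, ext0_coe]
  rw [← Finset.mul_sum, ← Finset.mul_sum, hnorm] at hsum
  have hdiff : PCong p (η' - η) 0 := by
    obtain ⟨z, hz, hze⟩ := hsum
    refine PCong.cancel (n := ((m * Nat.card C : ℕ) : ℤ)) ?_ ((hint η' hη'I).sub (hint η hη1))
      ⟨z, hz, ?_⟩
    · intro hd
      rcases hp.out.dvd_mul.1 (Int.natCast_dvd_natCast.1 hd) with h | h
      · exact hψ.not_dvd h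
      · exact hK (h.trans (Subgroup.card_dvd_of_le hCK))
    · push_cast
      rw [← hze]
      ring
  have hη0 : η ≠ 0 := fun h0 => by
    rw [h0, zero_pow hI0.ne'] at hη1
    exact zero_ne_one hη1
  have hinv : IsIntegral ℤ η⁻¹ := hint _ (by rw [inv_pow, hη1, inv_one])
  have hq : PCong p (η' * η⁻¹) 1 := by
    obtain ⟨z, hz, hze⟩ := hdiff.mul_right hinv
    refine ⟨z, hz, ?_⟩
    rw [← hze]
    field_simp
    ring
  have := eq_one_of_pCong hpI (by rw [mul_pow, inv_pow, hη1, hη'I, inv_one, mul_one]) hq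
  rw [mul_inv_eq_one₀ hη0] at this
  exact this.symm

/-- Commutator sums are preserved by the Glauberman correspondence. -/
theorem omega_eq_of_isCorr : ∀ (n : ℕ) (S K C H : Subgroup G), Nat.card S = n → IsPGroup p S →
    ¬ p ∣ Nat.card K → S ≤ Subgroup.normalizer (K : Set G) →
    C = K ⊓ Subgroup.centralizer (S : Set G) → ¬ p ∣ Nat.card H →
    H ≤ Subgroup.normalizer (S : Set G) → H ≤ Subgroup.normalizer (K : Set G) →
    ∀ (hCK : C ≤ K) (θ : IrrCharacter K) (φ : IrrCharacter C),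
      (∀ s ∈ S, Fixes (extendByZero K θ.1) s) → IsCorr p hCK θ φ →
      ∀ a ∈ H, ∀ b ∈ H, ⁅a, b⁆ ∈ C → Fixes (extendByZero K θ.1) a →
        Fixes (extendByZero K θ.1) b → omega K θ a b = omega C φ a b := by
  classical
  intro n
  induction n using Nat.strong_induction_on with
  | _ n ih =>
  intro S K C H hn hS hK hSK hC hH hHS hHK hCK θ φ hfix hcorr a₀ ha₀ b₀ hb₀ hab₀ hfa₀ hfb₀
  have hordH : ∀ {x : G}, x ∈ H → ¬ p ∣ orderOf x := fun {x} hx hd =>
    hH (hd.trans (Subgroup.orderOf_dvd_natCard H hx))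
  by_cases hbot : S = ⊥
  · exact omega_eq_of_centralizes S K C hS hK hSK hC hCK θ φ hfix hcorr
      (by rw [hbot, Subgroup.mem_centralizer_iff]; intro x hx; rw [Subgroup.mem_bot.1 hx]; simp)
      (hordH ha₀) (hHK ha₀) (hHK hb₀) (hHS hb₀) hab₀ hfa₀ hfb₀
  -- a maximal invariant normal subgroup
  let Good : Set (Subgroup G) := {U | U ≤ S ∧ U ≠ S ∧ S ≤ Subgroup.normalizer (U : Set G) ∧
    a₀ ∈ Subgroup.normalizer (U : Set G) ∧ b₀ ∈ Subgroup.normalizer (U : Set G)}
  have hGne : Good.Nonempty := ⟨⊥, bot_le, fun h => hbot h.symm,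
    by rw [Subgroup.normalizer_eq_top]; exact le_top,
    by rw [Subgroup.normalizer_eq_top]; trivial, by rw [Subgroup.normalizer_eq_top]; trivial⟩
  obtain ⟨R, ⟨hRS, hRne, hSR, haR, hbR⟩, hmax⟩ := (wellFounded_gt (α := Subgroup G)).has_min Good hGne
  haveI hRn : (R.subgroupOf S).Normal := Coprime.normal_subgroupOf_of_le_normalizer hSR
  set R₀ := R.subgroupOf S with hR₀
  set H' := H ⊓ Subgroup.normalizer (R : Set G) with hH'
  have hH'p : ¬ p ∣ Nat.card H' := fun h => hH (h.trans (Subgroup.card_dvd_of_le inf_le_left))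
  -- the action on `S / R`
  have hstab : ∀ x : H', R₀.map (conjK (hHS x.2.1)).toMonoidHom = R₀ := by
    intro x
    ext y
    rw [Subgroup.mem_map]
    constructor
    · rintro ⟨z, hz, rfl⟩
      exact Subgroup.mem_subgroupOf.2 ((conj_mem_iff x.2.2 _).2 (Subgroup.mem_subgroupOf.1 hz))
    · intro hy
      refine ⟨(conjK (hHS x.2.1)).symm y, ?_, (conjK (hHS x.2.1)).apply_symm_apply y⟩
      refine Subgroup.mem_subgroupOf.2 ((conj_mem_iff x.2.2 _).1 ?_)
      rw [← coe_conjK (hHS x.2.1), MulEquiv.apply_symm_apply]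
      exact Subgroup.mem_subgroupOf.1 hy
  let Φ : H' →* MulAut (S ⧸ R₀) :=
    { toFun := fun x => QuotientGroup.congr R₀ R₀ (conjK (hHS x.2.1)) (hstab x)
      map_one' := MulEquiv.ext fun q => by
        obtain ⟨s, rfl⟩ := QuotientGroup.mk_surjective q
        exact congrArg QuotientGroup.mk (Subtype.ext (by simp))
      map_mul' := fun x y => MulEquiv.ext fun q => by
        obtain ⟨s, rfl⟩ := QuotientGroup.mk_surjective q
        exact congrArg QuotientGroup.mk (Subtype.ext (by simp [mul_assoc])) }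
  have hΦ : ∀ (x : H') (s : S), Φ x (s : S ⧸ R₀) =
      ((conjK (hHS x.2.1) s : S) : S ⧸ R₀) := fun x s => rfl
  have hSne : R₀ ≠ ⊤ := fun h => hRne (le_antisymm hRS fun s hs =>
    Subgroup.mem_subgroupOf.1 (h ▸ Subgroup.mem_top (⟨s, hs⟩ : S)))
  haveI : Nontrivial (S ⧸ R₀) := by
    obtain ⟨s, hs⟩ : ∃ s : S, s ∉ R₀ := by
      by_contra! h
      exact hSne ((Subgroup.eq_top_iff' _).2 h)
    exact ⟨⟨(s : S ⧸ R₀), 1, fun h => hs ((QuotientGroup.eq_one_iff s).1 h)⟩⟩
  -- invariant subgroups of the quotient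
  have hkey : ∀ U : Subgroup (S ⧸ R₀), U.Normal →
      (∀ q ∈ U, Φ ⟨a₀, ha₀, haR⟩ q ∈ U) → (∀ q ∈ U, Φ ⟨b₀, hb₀, hbR⟩ q ∈ U) →
      U = ⊥ ∨ U = ⊤ := by
    intro U hU hUa hUb
    set U₁ := (U.comap (QuotientGroup.mk' R₀)).map S.subtype with hU₁
    have hmem : ∀ s : S, (s : G) ∈ U₁ ↔ (s : S ⧸ R₀) ∈ U := fun s => by
      rw [hU₁]
      refine ⟨?_, fun h => ⟨s, h, rfl⟩⟩
      rintro ⟨t, ht, hts⟩
      exact (Subtype.ext hts : t = s) ▸ ht
    have hle : U₁ ≤ S := Subgroup.map_subtype_le _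
    have hRU : R ≤ U₁ := fun r hr => (hmem ⟨r, hRS hr⟩).2 (by
      rw [(QuotientGroup.eq_one_iff (⟨r, hRS hr⟩ : S)).2 (Subgroup.mem_subgroupOf.2 hr)]
      exact one_mem U)
    have hnormU : ∀ x : H', (∀ q ∈ U, Φ x q ∈ U) →
        (x : G) ∈ Subgroup.normalizer (U₁ : Set G) := by
      intro x hx
      have hle' : U₁.map (MulAut.conj (x : G)).toMonoidHom ≤ U₁ := by
        rintro _ ⟨y, hy, rfl⟩
        have h1 := hx _ ((hmem ⟨y, hle hy⟩).1 hy)
        rw [hΦ] at h1
        exact (hmem (conjK (hHS x.2.1) ⟨y, hle hy⟩)).2 h1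
      have heq := Subgroup.eq_of_le_of_card_ge hle'
        (Subgroup.card_map_of_injective (MulAut.conj (x : G)).injective).ge
      refine Subgroup.mem_normalizer_iff.2 fun y => ⟨fun hy => hle' ⟨y, hy, rfl⟩, fun hy => ?_⟩
      rw [← heq] at hy
      obtain ⟨z, hz, he⟩ := hy
      exact (MulAut.conj (x : G)).injective he ▸ hz
    have hSU : S ≤ Subgroup.normalizer (U₁ : Set G) := by
      intro s hs
      refine Subgroup.mem_normalizer_iff.2 fun y => ?_
      have hcl : ∀ t ∈ S, ∀ z ∈ U₁, t * z * t⁻¹ ∈ U₁ := by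
        intro t ht z hz
        refine (hmem ((⟨t, ht⟩ : S) * ⟨z, hle hz⟩ * ⟨t, ht⟩⁻¹)).2 ?_
        rw [QuotientGroup.mk_mul, QuotientGroup.mk_mul, QuotientGroup.mk_inv]
        exact hU.conj_mem _ ((hmem ⟨z, hle hz⟩).1 hz) _
      refine ⟨hcl s hs y, fun hy => ?_⟩
      have := hcl s⁻¹ (inv_mem hs) _ hy
      rwa [show s⁻¹ * (s * y * s⁻¹) * s⁻¹⁻¹ = y by group] at this
    by_cases hUS : U₁ = S
    · right
      refine (Subgroup.eq_top_iff' _).2 fun q => ?_
      obtain ⟨s, rfl⟩ := QuotientGroup.mk_surjective q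
      exact (hmem s).1 (hUS.symm ▸ s.2)
    · left
      have hno := hmax U₁ ⟨hle, hUS, hSU, hnormU ⟨a₀, ha₀, haR⟩ hUa, hnormU ⟨b₀, hb₀, hbR⟩ hUb⟩
      have hUR : U₁ = R := le_antisymm (by
        by_contra hcon
        exact hno (lt_of_le_of_ne hRU fun h => hcon h.ge)) hRU
      refine (Subgroup.eq_bot_iff_forall _).2 fun q hq => ?_
      obtain ⟨s, rfl⟩ := QuotientGroup.mk_surjective q
      exact (QuotientGroup.eq_one_iff s).2 (Subgroup.mem_subgroupOf.2 (hUR ▸ (hmem s).2 hq))
  haveI : Finite (S ⧸ R₀) := inferInstance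
  have hcentre : Subgroup.center (S ⧸ R₀) = ⊤ := by
    have hinv : ∀ (f : MulAut (S ⧸ R₀)), ∀ q ∈ Subgroup.center (S ⧸ R₀),
        f q ∈ Subgroup.center (S ⧸ R₀) := fun f q hq => by
      refine Subgroup.mem_center_iff.2 fun g => ?_
      obtain ⟨g, rfl⟩ := f.surjective g
      rw [← map_mul, ← map_mul, Subgroup.mem_center_iff.1 hq g]
    refine (hkey _ inferInstance (hinv _) (hinv _)).resolve_left fun h => ?_
    haveI := (hS.to_quotient R₀).center_nontrivial
    exact (Subgroup.nontrivial_iff_ne_bot _).1 inferInstance h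
  letI : CommGroup (S ⧸ R₀) :=
    { (inferInstance : Group (S ⧸ R₀)) with
      mul_comm := fun x y => Subgroup.mem_center_iff.1 (hcentre ▸ Subgroup.mem_top y) x }
  have hcentC : ∀ c ∈ C, c ∈ Subgroup.centralizer (S : Set G) := fun c hc => (hC ▸ hc : c ∈ K ⊓ _).2
  have hcomm : Commute (Φ ⟨a₀, ha₀, haR⟩) (Φ ⟨b₀, hb₀, hbR⟩) := by
    rw [← commutatorElement_eq_one_iff_commute, ← map_commutatorElement]
    refine MulEquiv.ext fun q => ?_
    obtain ⟨s, rfl⟩ := QuotientGroup.mk_surjective q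
    refine (hΦ _ s).trans ?_
    refine congrArg QuotientGroup.mk (Subtype.ext ?_)
    rw [coe_conjK, mul_inv_eq_iff_eq_mul]
    exact (Subgroup.mem_centralizer_iff.1 (hcentC _ hab₀) s s.2).symm
  obtain ⟨γ, i₀, j₀, hi₀, hj₀⟩ := exists_common_generator _ _ hcomm fun U hUa hUb =>
    hkey U inferInstance hUa hUb
  -- the reduction to `a` trivial on `S / R`
  suffices hzero : ∀ a b : H', Φ a = 1 → ⁅(a : G), (b : G)⁆ ∈ C →
      Fixes (extendByZero K θ.1) a → Fixes (extendByZero K θ.1) b →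
      omega K θ a b = omega C φ a b by
    have heuclid : ∀ (i : ℕ) (a b : H') (j : ℕ), Φ a = γ ^ i → Φ b = γ ^ j →
        ⁅(a : G), (b : G)⁆ ∈ C → Fixes (extendByZero K θ.1) a → Fixes (extendByZero K θ.1) b →
        omega K θ a b = omega C φ a b := by
      intro i
      induction i using Nat.strong_induction_on with
      | _ i ihi =>
      intro a b j hai hbj hab hfa hfb
      rcases Nat.eq_zero_or_pos i with rfl | hi
      · exact hzero a b (by rw [hai, pow_zero]) hab hfa hfb
      set N := orderOf γ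
      obtain ⟨N', hN'⟩ : ∃ N', N = N' + 1 :=
        ⟨N - 1, (Nat.sub_add_cancel (orderOf_pos γ)).symm⟩
      set m := j / i * N'
      have hb' : Φ (b * a ^ m) = γ ^ (j % i) := by
        rw [map_mul, map_pow, hbj, hai, ← pow_mul, ← pow_add]
        have e : j + i * m = j % i + N * (j / i * i) := by
          have hji := Nat.mod_add_div j i
          rw [hN', show m = j / i * N' from rfl]
          linarith
        rw [e, pow_add, pow_mul γ N, pow_orderOf_eq_one, one_pow, mul_one]
      have hc1 : ⁅(a : G), ((b * a ^ m : H') : G)⁆ = ⁅(a : G), (b : G)⁆ := by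
        simp only [Subgroup.coe_mul, SubmonoidClass.coe_pow, commutatorElement_def]
        group
      have hfb' : Fixes (extendByZero K θ.1) ((b * a ^ m : H') : G) := by
        refine hfb.mul ?_
        rw [SubmonoidClass.coe_pow]
        exact Subgroup.pow_mem (stab (extendByZero K θ.1)) hfa m
      have hc2 : ⁅((b * a ^ m : H') : G), (a : G)⁆ ∈ C := by
        rw [← commutatorElement_inv, hc1]
        exact inv_mem hab
      have key := ihi (j % i) (Nat.mod_lt j hi) (b * a ^ m) a i hb' hai hc2 hfb' hfa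
      rw [omega_swap θ, omega_swap φ] at key
      have hrec := (starRingEnd ℂ).injective key
      rw [Subgroup.coe_mul, SubmonoidClass.coe_pow,
        omega_mul_self_pow θ (hHK a.2.1),
        omega_mul_self_pow φ (normalizes_fix hC (hHS a.2.1) (hHK a.2.1))] at hrec
      exact hrec
    exact heuclid i₀ ⟨a₀, ha₀, haR⟩ ⟨b₀, hb₀, hbR⟩ j₀ hi₀ hj₀ hab₀ hfa₀ hfb₀
  intro a b hΦa hab hfa hfb
  -- the step through `R`
  set D := K ⊓ Subgroup.centralizer (R : Set G) with hD
  have hCD : C ≤ D := hC ▸ le_inf inf_le_left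
    (inf_le_right.trans (Subgroup.centralizer_le (fun x hx => hRS hx)))
  have hDK : D ≤ K := inf_le_left
  have hR : IsPGroup p R := hS.to_le hRS
  have hRK : R ≤ Subgroup.normalizer (K : Set G) := hRS.trans hSK
  have hfR : ∀ r ∈ R, Fixes (extendByZero K θ.1) r := fun r hr => hfix r (hRS hr)
  obtain ⟨φ₁, hφ₁⟩ := exists_isCorr hR hK hRK hD hDK θ hfR
  have hlt : Nat.card R < n := by
    rw [← hn]
    refine lt_of_le_of_ne (Nat.le_of_dvd Nat.card_pos (Subgroup.card_dvd_of_le hRS)) fun h => ?_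
    exact hRne (Subgroup.eq_of_le_of_card_ge hRS h.ge)
  rw [ih _ hlt R K D H' rfl hR hK hRK hD hH'p inf_le_right (inf_le_left.trans hHK) hDK θ φ₁ hfR hφ₁
    a a.2 b b.2 (hCD hab) hfa hfb]
  have hfφ₁ : ∀ x : G, x ∈ Subgroup.normalizer (R : Set G) → x ∈ Subgroup.normalizer (K : Set G) →
      Fixes (extendByZero K θ.1) x → Fixes (extendByZero D φ₁.1) x := fun x h1 h2 h3 =>
    (isCorr_fixes_iff hR hK hRK hD hDK hfR hφ₁ h1 h2).1 h3
  -- the step from `R` to `S` through the centraliser of `a`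
  set T := S ⊓ Subgroup.centralizer ((Subgroup.zpowers (a : G) : Subgroup G) : Set G) with hT
  have hT' : IsPGroup p T := hS.to_le inf_le_left
  have haT : (a : G) ∈ Subgroup.centralizer (T : Set G) :=
    Subgroup.mem_centralizer_iff.2 fun t ht =>
      (Subgroup.mem_centralizer_iff.1 ht.2 _ (Subgroup.mem_zpowers (a : G))).symm
  have hgen : ∀ s ∈ S, ∃ r ∈ R, ∃ t ∈ T, s = t * r := by
    intro s hs
    obtain ⟨m, hm⟩ := IsPGroup.iff_card.1 hS
    have hmem : ∀ x ∈ Subgroup.zpowers (a : G), s⁻¹ * x * s * x⁻¹ ∈ R := by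
      intro x hx
      obtain ⟨k, rfl⟩ := mem_powers_iff_mem_zpowers.2 hx
      have h1 : Φ (a ^ k) = 1 := by rw [map_pow, hΦa, one_pow]
      have h2 := hΦ (a ^ k) ⟨s, hs⟩
      rw [h1, MulAut.one_apply, QuotientGroup.eq, hR₀, Subgroup.mem_subgroupOf] at h2
      simpa [mul_assoc] using h2
    have hAR : Subgroup.zpowers (a : G) ≤ Subgroup.normalizer (R : Set G) :=
      Subgroup.zpowers_le.2 a.2.2
    have hcop : (Nat.card (Subgroup.zpowers (a : G))).Coprime (Nat.card S) := by
      rw [Nat.card_zpowers, hm]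
      exact ((hp.out.coprime_iff_not_dvd).2 (hordH a.2.1)).symm.pow_right m
    have hsol : Group.IsSolvable (Subgroup.zpowers (a : G)) :=
      Group.isSolvable_of_comm fun x y => by
        obtain ⟨_, i, rfl⟩ := x
        obtain ⟨_, j, rfl⟩ := y
        exact Subtype.ext (Commute.zpow_zpow_self (a : G) i j).eq
    obtain ⟨t, ht, htR⟩ := Coprime.exists_mem_inf_centralizer_leftCoset hAR hRS hcop (Or.inl hsol)
      hs hmem
    refine ⟨t⁻¹ * s, ?_, t, ht, by group⟩
    have := inv_mem htR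
    rwa [mul_inv_rev, inv_inv] at this
  have hbT : (b : G) ∈ Subgroup.normalizer (T : Set G) := by
    have hc : ∀ {y : G}, y ∈ S → (y * (a : G) = a * y ↔ y * ((b : G) * a * (b : G)⁻¹) =
        (b : G) * a * (b : G)⁻¹ * y) := by
      intro y hy
      have h1 : (b : G) * a * (b : G)⁻¹ = ⁅(a : G), (b : G)⁆⁻¹ * a := by
        rw [commutatorElement_def]; group
      have h2 : Commute y ⁅(a : G), (b : G)⁆⁻¹ :=
        Commute.inv_right (Subgroup.mem_centralizer_iff.1 (hcentC _ hab) y hy)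
      rw [h1, ← mul_assoc y, h2.eq, mul_assoc, mul_assoc, mul_left_cancel_iff]
    have hTmem : ∀ {y : G}, y ∈ T ↔ y ∈ S ∧ y * (a : G) = a * y := by
      intro y
      rw [hT, Subgroup.mem_inf, Subgroup.mem_centralizer_iff]
      refine and_congr_right fun _ => ⟨fun h => (h _ (Subgroup.mem_zpowers (a : G))).symm,
        fun h x hx => ?_⟩
      obtain ⟨i, rfl⟩ := hx
      exact (Commute.zpow_left (Commute.symm h) i).eq
    refine Subgroup.mem_normalizer_iff.2 fun y => ?_
    rw [hTmem, hTmem, conj_mem_iff (hHS b.2.1)]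
    refine and_congr_right fun hy => ?_
    have hy' : (b : G) * y * (b : G)⁻¹ ∈ S := (conj_mem_iff (hHS b.2.1) y).2 hy
    rw [hc hy']
    constructor
    · intro h
      calc (b : G) * y * (b : G)⁻¹ * ((b : G) * a * (b : G)⁻¹) = b * (y * a) * (b : G)⁻¹ := by group
        _ = b * (a * y) * (b : G)⁻¹ := by rw [h]
        _ = _ := by group
    · intro h
      have := congrArg (fun z => (b : G)⁻¹ * z * b) h
      simpa [mul_assoc] using this
  have hTD : T ≤ Subgroup.normalizer (D : Set G) := fun t ht =>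
    normalizes_fix hD (hSR ht.1) (hSK ht.1)
  have hCDT : C = D ⊓ Subgroup.centralizer (T : Set G) := by
    refine le_antisymm (le_inf hCD (hC ▸ inf_le_right.trans
      (Subgroup.centralizer_le (fun x hx => hx.1)))) ?_
    rintro x ⟨hxD, hxT⟩
    rw [hC]
    refine ⟨hDK hxD, Subgroup.mem_centralizer_iff.2 fun s hs => ?_⟩
    obtain ⟨r, hr, t, ht, rfl⟩ := hgen s hs
    rw [mul_assoc, Subgroup.mem_centralizer_iff.1 hxD.2 r hr, ← mul_assoc,
      Subgroup.mem_centralizer_iff.1 hxT t ht, mul_assoc]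
  have hDp : ¬ p ∣ Nat.card D := fun h => hK (h.trans (Subgroup.card_dvd_of_le hDK))
  have hfT : ∀ t ∈ T, Fixes (extendByZero D φ₁.1) t := fun t ht =>
    hfφ₁ t (hSR ht.1) (hSK ht.1) (hfix t ht.1)
  obtain ⟨φ', hφ'⟩ := exists_isCorr hT' hDp hTD hCDT hCD φ₁ hfT
  obtain rfl := hφ₁.comp hφ' hcorr
  exact omega_eq_of_centralizes T D C hT' hDp hTD hCDT hCD φ₁ φ' hfT hφ' haT (hordH a.2.1)
    (normalizes_fix hD a.2.2 (hHK a.2.1)) (normalizes_fix hD b.2.2 (hHK b.2.1)) hbT hab
    (hfφ₁ a a.2.2 (hHK a.2.1) hfa) (hfφ₁ b b.2.2 (hHK b.2.1) hfb)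

end Cfsg.Agent.RelMcKay
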