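import Cfsg.Agent.Lib.RelativeMcKay.PairSum
import Cfsg.Agent.Lib.Glauberman.Operators

/-!
# The Glauberman correspondence between subgroups of one group

`S` is a `p`-subgroup normalising the `p'`-subgroup `K`, and `C` is the centraliser of `S` in `K`.
`IsCorr p h θ φ` says that `φ` is the only irreducible character of `C` whose multiplicity in the
restriction of `θ` is prime to `p`.
-/

set_option autoImplicit false
set_option linter.style.haveILetI false
set_option linter.unusedSectionVars false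

namespace Cfsg.Agent.RelMcKay

open Cfsg Cfsg.Agent.Glauberman
open scoped ComplexConjugate commutatorElement

attribute [local instance high] Fintype.ofFinite

universe u

variable {G : Type u} [Group G] [Finite G]

/-- The multiplicity in the restriction to a subgroup. -/
noncomputable def resMult {K C : Subgroup G} (h : C ≤ K) (θ : IrrCharacter K)
    (γ : IrrCharacter C) : ℕ :=
  Glauberman.mult (Subgroup.inclusion h) θ γ

theorem resMult_eq {K C : Subgroup G} (h : C ≤ K) (θ : IrrCharacter K) (γ : IrrCharacter C) :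
    classInner (fun c : C => θ.1 (Subgroup.inclusion h c)) γ.1 = (resMult h θ γ : ℂ) :=
  Glauberman.mult_eq θ γ

theorem res_eq_sum {K C : Subgroup G} (h : C ≤ K) (θ : IrrCharacter K) (c : C) :
    θ.1 (Subgroup.inclusion h c) = ∑ γ : IrrCharacter C, (resMult h θ γ : ℂ) * γ.1 c :=
  Glauberman.sum_mult_smul θ c

theorem resMult_trans {K D C : Subgroup G} (h₁ : D ≤ K) (h₂ : C ≤ D) (θ : IrrCharacter K)
    (γ : IrrCharacter C) :
    resMult (h₂.trans h₁) θ γ = ∑ δ : IrrCharacter D, resMult h₁ θ δ * resMult h₂ δ γ := by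
  apply Nat.cast_injective (R := ℂ)
  push_cast
  rw [← resMult_eq, show (fun c : C => θ.1 (Subgroup.inclusion (h₂.trans h₁) c)) =
    ∑ δ : IrrCharacter D, (resMult h₁ θ δ : ℂ) • fun c : C => δ.1 (Subgroup.inclusion h₂ c) from ?_,
    Char.classInner_sum_left]
  · exact Finset.sum_congr rfl fun δ _ => by rw [Char.classInner_smul_left, resMult_eq]
  · funext c
    rw [Finset.sum_apply]
    exact res_eq_sum h₁ θ (Subgroup.inclusion h₂ c)

/-- `φ` is the only constituent of multiplicity prime to `p`. -/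
def IsCorr (p : ℕ) {K C : Subgroup G} (h : C ≤ K) (θ : IrrCharacter K) (φ : IrrCharacter C) :
    Prop :=
  ∀ γ : IrrCharacter C, ¬ p ∣ resMult h θ γ ↔ γ = φ

theorem IsCorr.not_dvd {p : ℕ} {K C : Subgroup G} {h : C ≤ K} {θ : IrrCharacter K}
    {φ : IrrCharacter C} (hc : IsCorr p h θ φ) : ¬ p ∣ resMult h θ φ := (hc φ).2 rfl

theorem IsCorr.right_unique {p : ℕ} {K C : Subgroup G} {h : C ≤ K} {θ : IrrCharacter K}
    {φ φ' : IrrCharacter C} (hc : IsCorr p h θ φ) (hc' : IsCorr p h θ φ') : φ' = φ :=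
  (hc φ').1 hc'.not_dvd

/-- The composite of two correspondences agrees with the correspondence. -/
theorem IsCorr.comp {p : ℕ} [hp : Fact p.Prime] {K D C : Subgroup G} {h₁ : D ≤ K} {h₂ : C ≤ D}
    {θ : IrrCharacter K} {φ₁ : IrrCharacter D} {φ' φ : IrrCharacter C}
    (hc₁ : IsCorr p h₁ θ φ₁) (hc₂ : IsCorr p h₂ φ₁ φ') (hc : IsCorr p (h₂.trans h₁) θ φ) :
    φ' = φ := by
  classical
  refine (hc φ').1 ?_
  rw [resMult_trans h₁ h₂, ← Finset.add_sum_erase _ _ (Finset.mem_univ φ₁), Nat.dvd_add_left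
    (Finset.dvd_sum fun δ hδ => dvd_mul_of_dvd_left (by
      by_contra hnd
      exact (Finset.mem_erase.1 hδ).1 ((hc₁ δ).1 hnd)) _)]
  exact fun h => (hp.out.dvd_mul.1 h).elim hc₁.not_dvd hc₂.not_dvd

/-- A restriction is congruent to the multiple of the correspondent. -/
theorem IsCorr.pCong {p : ℕ} {K C : Subgroup G} {h : C ≤ K} {θ : IrrCharacter K}
    {φ : IrrCharacter C} (hc : IsCorr p h θ φ) (c : C) :
    PCong p (θ.1 (Subgroup.inclusion h c)) ((resMult h θ φ : ℂ) * φ.1 c) := by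
  classical
  rw [res_eq_sum, ← Finset.add_sum_erase _ _ (Finset.mem_univ φ)]
  have := PCong.sum (p := p) ((Finset.univ : Finset (IrrCharacter C)).erase φ)
    (f := fun γ => (resMult h θ γ : ℂ) * γ.1 c) (g := fun _ => 0) fun γ hγ =>
      PCong.of_nat_dvd (by
        by_contra hnd
        exact (Finset.mem_erase.1 hγ).1 ((hc γ).1 hnd)) (isIntegral_irr γ c)
  simpa using (PCong.refl (p := p) ((resMult h θ φ : ℂ) * φ.1 c)).add this

section Setting

variable {S K C : Subgroup G}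

theorem hnorm_of_le (hSK : S ≤ Subgroup.normalizer (K : Set G)) :
    ∀ s ∈ S, ∀ g ∈ K, s * g * s⁻¹ ∈ K :=
  fun _ hs g hg => (conj_mem_iff (hSK hs) g).2 hg

theorem isFixedEmbedding_fix (hSK : S ≤ Subgroup.normalizer (K : Set G))
    (hC : C = K ⊓ Subgroup.centralizer (S : Set G)) (h : C ≤ K) :
    IsFixedEmbedding (conjOn (hnorm_of_le hSK)) (Subgroup.inclusion h) where
  injective := Subgroup.inclusion_injective h
  mem_range g := by
    constructor
    · rintro ⟨c, rfl⟩ t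
      refine Subtype.ext ?_
      rw [coe_conjOn, Subgroup.coe_inclusion, mul_inv_eq_iff_eq_mul]
      have hc : (c : G) ∈ K ⊓ Subgroup.centralizer (S : Set G) := hC ▸ c.2
      exact Subgroup.mem_centralizer_iff.1 hc.2 t t.2
    · intro hg
      refine ⟨⟨g, hC ▸ ⟨g.2, Subgroup.mem_centralizer_iff.2 fun s hs => ?_⟩⟩, rfl⟩
      have := congrArg Subtype.val (hg ⟨s, hs⟩)
      rw [coe_conjOn, mul_inv_eq_iff_eq_mul] at this
      exact this

theorem isFix_iff (hSK : S ≤ Subgroup.normalizer (K : Set G)) (θ : IrrCharacter K) :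
    IsFix (conjOn (hnorm_of_le hSK)) θ.1 ↔ ∀ s ∈ S, Fixes (extendByZero K θ.1) s := by
  constructor
  · intro h s hs
    refine (fixes_ext0_iff (hSK hs) θ.1).2 fun k => ?_
    exact h ⟨s, hs⟩ k
  · intro h s k
    exact (fixes_ext0_iff (hSK s.2) θ.1).1 (h s s.2) k

variable {p : ℕ} [hp : Fact p.Prime] (hS : IsPGroup p S) (hK : ¬ p ∣ Nat.card K)
  (hSK : S ≤ Subgroup.normalizer (K : Set G)) (hC : C = K ⊓ Subgroup.centralizer (S : Set G))
  (h : C ≤ K)

include hS hK hSK hC

theorem exists_isCorr (θ : IrrCharacter K) (hfix : ∀ s ∈ S, Fixes (extendByZero K θ.1) s) :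
    ∃ φ, IsCorr p h θ φ := by
  have hι := isFixedEmbedding_fix hSK hC h
  have hf := (isFix_iff hSK θ).2 hfix
  obtain ⟨φ, hφ⟩ := exists_corr_right hS hι hK hf
  exact ⟨φ, fun γ => ⟨fun hγ => corr_right_unique hS hι hK ⟨hf, hγ⟩ hφ, fun e => e ▸ hφ.2⟩⟩

theorem exists_isCorr_left (φ : IrrCharacter C) :
    ∃ θ : IrrCharacter K, (∀ s ∈ S, Fixes (extendByZero K θ.1) s) ∧ IsCorr p h θ φ := by
  have hι := isFixedEmbedding_fix hSK hC h
  obtain ⟨θ, hθ⟩ := exists_corr_left hS hι hK φ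
  exact ⟨θ, (isFix_iff hSK θ).1 hθ.1, fun γ =>
    ⟨fun hγ => corr_right_unique hS hι hK ⟨hθ.1, hγ⟩ hθ, fun e => e ▸ hθ.2⟩⟩

theorem isCorr_left_unique {θ θ' : IrrCharacter K} {φ : IrrCharacter C}
    (hf : ∀ s ∈ S, Fixes (extendByZero K θ.1) s) (hf' : ∀ s ∈ S, Fixes (extendByZero K θ'.1) s)
    (hc : IsCorr p h θ φ) (hc' : IsCorr p h θ' φ) : θ = θ' :=
  corr_left_unique hS (isFixedEmbedding_fix hSK hC h) hK ⟨(isFix_iff hSK θ).2 hf, hc.not_dvd⟩
    ⟨(isFix_iff hSK θ').2 hf', hc'.not_dvd⟩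

omit hS hK hSK in
theorem normalizes_fix {g : G} (hgS : g ∈ Subgroup.normalizer (S : Set G))
    (hgK : g ∈ Subgroup.normalizer (K : Set G)) : g ∈ Subgroup.normalizer (C : Set G) := by
  have hc : ∀ x ∈ Subgroup.centralizer (S : Set G), ∀ y ∈ Subgroup.normalizer (S : Set G),
      y * x * y⁻¹ ∈ Subgroup.centralizer (S : Set G) := by
    intro x hx y hy
    refine Subgroup.mem_centralizer_iff.2 fun s hs => ?_
    have h1 : y⁻¹ * s * y⁻¹⁻¹ ∈ S := (conj_mem_iff (inv_mem hy) s).2 hs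
    have h2 := Subgroup.mem_centralizer_iff.1 hx _ h1
    rw [inv_inv] at h2
    calc s * (y * x * y⁻¹) = y * (y⁻¹ * s * y * x) * y⁻¹ := by group
      _ = y * (x * (y⁻¹ * s * y)) * y⁻¹ := by rw [h2]
      _ = y * x * y⁻¹ * s := by group
  refine Subgroup.mem_normalizer_iff.2 fun x => ?_
  rw [hC, Subgroup.mem_inf, Subgroup.mem_inf, conj_mem_iff hgK]
  refine and_congr_right fun _ => ⟨fun hx => hc x hx g hgS, fun hx => ?_⟩
  have := hc _ hx g⁻¹ (inv_mem hgS)
  rwa [show g⁻¹ * (g * x * g⁻¹) * g⁻¹⁻¹ = x by group] at this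

omit hS hK hSK hC in
theorem resMult_conj {g : G} (hgK : g ∈ Subgroup.normalizer (K : Set G))
    (hgC : g ∈ Subgroup.normalizer (C : Set G)) (θ : IrrCharacter K) (γ : IrrCharacter C) :
    resMult h (conjIrr hgK θ) (conjIrr hgC γ) = resMult h θ γ :=
  Glauberman.mult_twist (conjK hgK) (conjK hgC) (fun c => Subtype.ext rfl) θ γ

/-- Elements normalising `S` and `K` respect the correspondence. -/
theorem isCorr_fixes_iff {θ : IrrCharacter K} {φ : IrrCharacter C}
    (hf : ∀ s ∈ S, Fixes (extendByZero K θ.1) s) (hc : IsCorr p h θ φ) {g : G}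
    (hgS : g ∈ Subgroup.normalizer (S : Set G)) (hgK : g ∈ Subgroup.normalizer (K : Set G)) :
    Fixes (extendByZero K θ.1) g ↔ Fixes (extendByZero C φ.1) g := by
  have hgC := normalizes_fix hC hgS hgK
  rw [fixes_iff_conjIrr hgK, fixes_iff_conjIrr hgC]
  have hf' : ∀ s ∈ S, Fixes (extendByZero K (conjIrr hgK θ).1) s := by
    intro s hs
    refine (fixes_ext0_iff (hSK hs) _).2 fun k => ?_
    simp only [conjIrr_apply]
    have hs' : g * s * g⁻¹ ∈ S := (conj_mem_iff hgS s).2 hs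
    rw [← (fixes_ext0_iff (hSK hs') θ.1).1 (hf _ hs') (conjK hgK k)]
    exact congrArg θ.1 (Subtype.ext (by simp only [coe_conjK]; group))
  have hnd : ¬ p ∣ resMult h (conjIrr hgK θ) (conjIrr hgC φ) := by
    rw [resMult_conj h hgK hgC]; exact hc.not_dvd
  constructor
  · intro he
    rw [he] at hnd
    exact (hc _).1 hnd
  · intro he
    have hι := isFixedEmbedding_fix hSK hC h
    rw [he] at hnd
    exact corr_left_unique hS hι hK ⟨(isFix_iff hSK _).2 hf', hnd⟩
      ⟨(isFix_iff hSK θ).2 hf, hc.not_dvd⟩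

end Setting

end Cfsg.Agent.RelMcKay
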