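import Cfsg.Agent.Lib.RelativeMcKay.PairSum
import Cfsg.Agent.Lib.Char.ClassSum
import Cfsg.Agent.Lib.Char.CliffordCorrespondence
import Cfsg.Agent.Lib.Char.Descend
import Cfsg.Agent.Lib.CharInt.Central

/-!
# Counting characters of degree prime to `p` over a character of a normal subgroup

`Over j ν χ`: `χ ∘ j` is not orthogonal to `ν`.  `cnt p j ν` counts the irreducible characters of
degree prime to `p` over `ν`.  The count is decomposed over the characters of an intermediate
normal subgroup, and the number of characters over a given `θ` is a sum of `conj θ` over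
commutators.
-/

set_option autoImplicit false
set_option linter.style.haveILetI false
set_option linter.unusedSectionVars false

namespace Cfsg.Agent.RelMcKay

open Cfsg
open scoped ComplexConjugate commutatorElement

/-- Subgroups of finite groups are finite types. -/
noncomputable abbrev subgroupFintype {G : Type*} [Group G] [Finite G] (H : Subgroup G) :
    Fintype H := Fintype.ofFinite H

attribute [local instance high] subgroupFintype
attribute [local instance 10] Fintype.ofFinite

universe u v w z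

section Defs

variable {L : Type u} [Group L] {G : Type v} [Group G]

/-- `χ` lies over `ν` along `j`. -/
def Over (j : L →* G) (ν : L → ℂ) (χ : G → ℂ) : Prop :=
  ∑ᶠ l : L, χ (j l) * conj (ν l) ≠ 0

/-- The number of irreducible characters of degree prime to `p` over `ν`. -/
noncomputable def cnt (p : ℕ) (j : L →* G) (ν : L → ℂ) : ℕ :=
  Nat.card {χ : IrrCharacter G // ¬ p ∣ charDegree χ.1 ∧ Over j ν χ.1}

theorem over_iff [Finite L] (j : L →* G) (ν : L → ℂ) (χ : G → ℂ) :
    Over j ν χ ↔ classInner (fun l => χ (j l)) ν ≠ 0 := by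
  rw [Over, finsum_eq_sum_of_fintype, classInner, mul_ne_zero_iff]
  exact ⟨fun h => ⟨inv_ne_zero Char.card_ne_zero, h⟩, fun h => h.2⟩

variable {L' : Type w} [Group L'] {G' : Type z} [Group G']

theorem over_congr (e : G ≃* G') (f : L ≃* L') {j : L →* G} {j' : L' →* G'} {ν : L → ℂ}
    {ν' : L' → ℂ} (hj : ∀ l, j' (f l) = e (j l)) (hν : ∀ l, ν' (f l) = ν l) (χ : G → ℂ) :
    Over j ν χ ↔ Over j' ν' fun x => χ (e.symm x) := by
  unfold Over
  rw [finsum_eq_of_bijective (g := fun l' => χ (e.symm (j' l')) * conj (ν' l')) f f.bijective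
    fun l => by rw [hj, hν, MulEquiv.symm_apply_apply]]

/-- The count is invariant under isomorphisms. -/
theorem cnt_congr (p : ℕ) (e : G ≃* G') (f : L ≃* L') {j : L →* G} {j' : L' →* G'} {ν : L → ℂ}
    {ν' : L' → ℂ} (hj : ∀ l, j' (f l) = e (j l)) (hν : ∀ l, ν' (f l) = ν l) :
    cnt p j ν = cnt p j' ν' := by
  let τ : IrrCharacter G ≃ IrrCharacter G' :=
    { toFun := fun χ => ⟨fun x => χ.1 (e.symm x),
        Char.IsIrrCharacter.comp_surjective χ.2 e.symm.toMonoidHom e.symm.surjective⟩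
      invFun := fun χ => ⟨fun x => χ.1 (e x),
        Char.IsIrrCharacter.comp_surjective χ.2 e.toMonoidHom e.surjective⟩
      left_inv := fun χ => Subtype.ext (funext fun x => congrArg χ.1 (e.symm_apply_apply x))
      right_inv := fun χ => Subtype.ext (funext fun x => congrArg χ.1 (e.apply_symm_apply x)) }
  refine Nat.card_congr (τ.subtypeEquiv fun χ => and_congr ?_ (over_congr e f hj hν χ.1))
  rw [show charDegree (τ χ).1 = charDegree χ.1 from ?_]
  unfold charDegree
  rw [show (τ χ).1 1 = χ.1 1 from congrArg χ.1 (map_one e.symm)]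

end Defs

section Central

variable {L : Type u} [Group L] [Finite L] {G : Type v} [Group G] [Finite G] (j : L →* G)
  (hj : ∀ l, j l ∈ Subgroup.center G)

include hj in
/-- A central subgroup acts in an irreducible character through a linear character. -/
theorem exists_central_character (χ : IrrCharacter G) :
    ∃ ε : L →* ℂ, ∀ l g, χ.1 (j l * g) = ε l * χ.1 g := by
  obtain ⟨n, ρ, hρ, hχ⟩ := χ.2
  haveI := hρ
  choose c hc using fun l => CharInt.exists_smul_one_of_mem_center (ρ := ρ) (hj l)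
  haveI := Char.nontrivial_of_isIrreducible ρ
  have hinj : ∀ a b : ℂ, a • (1 : Module.End ℂ (Fin n → ℂ)) = b • 1 → a = b := fun a b h =>
    smul_left_injective ℂ (one_ne_zero : (1 : Module.End ℂ (Fin n → ℂ)) ≠ 0) h
  refine ⟨{ toFun := c, map_one' := hinj _ _ ?_, map_mul' := fun l m => hinj _ _ ?_ },
    fun l g => ?_⟩
  · rw [← hc, map_one, map_one, one_smul]
  · rw [← hc, map_mul, map_mul, hc, hc, smul_mul_assoc, one_mul, smul_smul]
  · show χ.1 (j l * g) = c l * χ.1 g
    rw [← hχ]
    simp [Representation.character, map_mul, hc]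

include hj in
/-- Being over a linear character of a central subgroup. -/
theorem over_central_iff (ν : L →* ℂ) (χ : IrrCharacter G) :
    Over j ν χ.1 ↔ ∀ l g, χ.1 (j l * g) = ν l * χ.1 g := by
  classical
  obtain ⟨ε, hε⟩ := exists_central_character j hj χ
  have h1 : ∀ l, χ.1 (j l) = ε l * χ.1 1 := fun l => by rw [← hε, mul_one]
  have hne := Char.IsIrrCharacter.apply_one_ne_zero χ.2
  have hin : classInner (fun l => χ.1 (j l)) ν =
      χ.1 1 * classInner (Char.linIrr ε).1 (Char.linIrr ν).1 := by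
    rw [← Char.classInner_smul_left]
    congr 1
    funext l
    rw [h1, Pi.smul_apply, smul_eq_mul, Char.linIrr_apply, mul_comm]
  rw [over_iff, hin, mul_ne_zero_iff, Char.classInner_irr]
  constructor
  · rintro ⟨-, h⟩ l g
    have he : Char.linIrr ε = Char.linIrr ν := by
      by_contra hc; exact h (if_neg hc)
    rw [hε, Char.linIrr_injective he]
  · intro h
    refine ⟨hne, ?_⟩
    have he : ε = ν := MonoidHom.ext fun l => mul_right_cancel₀ hne ((h1 l).symm.trans (by
      simpa using h l 1))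
    rw [if_pos (by rw [he])]
    exact one_ne_zero

end Central

section Conjugates

variable {G : Type u} [Group G] {K : Subgroup G}

/-- `η` is the conjugate of `θ` by `g`. -/
def ConjBy (g : G) (θ η : IrrCharacter K) : Prop :=
  ∀ x : G, extendByZero K η.1 x = extendByZero K θ.1 (g * x * g⁻¹)

theorem conjBy_one (θ : IrrCharacter K) : ConjBy 1 θ θ := fun x => by simp

theorem ConjBy.symm {g : G} {θ η : IrrCharacter K} (h : ConjBy g θ η) : ConjBy g⁻¹ η θ :=
  fun x => by rw [h]; congr 1; group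

theorem ConjBy.trans {g h : G} {θ η ξ : IrrCharacter K} (h₁ : ConjBy g θ η) (h₂ : ConjBy h η ξ) :
    ConjBy (g * h) θ ξ :=
  fun x => by rw [h₂, h₁]; congr 1; group

theorem conjBy_iff_conjIrr {g : G} (hg : g ∈ Subgroup.normalizer (K : Set G))
    (θ η : IrrCharacter K) : ConjBy g θ η ↔ η = conjIrr hg θ := by
  constructor
  · intro h
    refine Subtype.ext (funext fun k => ?_)
    rw [conjIrr_apply, ← ext0_coe η.1, h, ← coe_conjK hg k, ext0_coe]
  · rintro rfl x
    by_cases hx : x ∈ K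
    · lift x to K using hx
      rw [ext0_coe, conjIrr_apply, ← coe_conjK hg x, ext0_coe]
    · rw [Char.extendByZero_of_notMem K _ hx,
        Char.extendByZero_of_notMem K _ fun h' => hx ((conj_mem_iff hg x).1 h')]

end Conjugates

section OverSubgroup

variable {G : Type u} [Group G] [Finite G] {K M : Subgroup G} (hKM : K ≤ M)
  (hMK : M ≤ Subgroup.normalizer (K : Set G))

theorem over_inclusion_iff (θ : IrrCharacter K) (χ : M → ℂ) :
    Over (Subgroup.inclusion hKM) θ.1 χ ↔
      classInner (Char.resFun (K.subgroupOf M) χ) (Char.toSubgroupOf K hKM θ).1 ≠ 0 := by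
  rw [over_iff]
  refine Iff.of_eq (congrArg (· ≠ (0 : ℂ)) ?_)
  simp only [classInner, Nat.card_congr (Subgroup.subgroupOfEquivOfLe hKM).toEquiv]
  congr 1
  refine Fintype.sum_equiv (Subgroup.subgroupOfEquivOfLe hKM).symm.toEquiv _ _ fun x => ?_
  rfl

include hMK in
theorem over_conjBy {g : G} (hg : g ∈ M) {θ η : IrrCharacter K} (h : ConjBy g θ η)
    (χ : IrrCharacter M) (hχ : Over (Subgroup.inclusion hKM) θ.1 χ.1) :
    Over (Subgroup.inclusion hKM) η.1 χ.1 := by
  unfold Over at hχ ⊢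
  rw [(conjBy_iff_conjIrr (hMK hg) θ η).1 h]
  rw [finsum_eq_sum_of_fintype] at hχ ⊢
  refine fun h0 => hχ (Eq.trans ?_ h0)
  refine (Fintype.sum_equiv (conjK (hMK hg)).toEquiv _ _ fun k => ?_).symm
  show χ.1 (Subgroup.inclusion hKM k) * conj (θ.1 (conjK (hMK hg) k)) =
    χ.1 (Subgroup.inclusion hKM (conjK (hMK hg) k)) * conj (θ.1 (conjK (hMK hg) k))
  rw [show Subgroup.inclusion hKM (conjK (hMK hg) k) =
    (⟨g, hg⟩ : M) * Subgroup.inclusion hKM k * (⟨g, hg⟩ : M)⁻¹ from Subtype.ext rfl,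
    Char.IsCharacter.isClassFunction (Char.irr_isCharacter χ) _ ⟨g, hg⟩]

include hMK in
/-- Constituents are conjugate. -/
theorem exists_conjBy_of_over (χ : IrrCharacter M) {θ η : IrrCharacter K}
    (hθ : Over (Subgroup.inclusion hKM) θ.1 χ.1) (hη : Over (Subgroup.inclusion hKM) η.1 χ.1) :
    ∃ g ∈ M, ConjBy g θ η := by
  haveI := Coprime.normal_subgroupOf_of_le_normalizer hMK
  obtain ⟨g, hg⟩ := Char.exists_conjChar_of_constituents (K.subgroupOf M) χ _ _
    ((over_inclusion_iff hKM θ _).1 hθ) ((over_inclusion_iff hKM η _).1 hη)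
  refine ⟨g, g.2, (conjBy_iff_conjIrr (hMK g.2) θ η).2 (Subtype.ext (funext fun k => ?_))⟩
  exact congrFun (congrArg Subtype.val hg) ⟨⟨k, hKM k.2⟩, k.2⟩

include hMK in
theorem exists_over (χ : IrrCharacter M) :
    ∃ θ : IrrCharacter K, Over (Subgroup.inclusion hKM) θ.1 χ.1 := by
  haveI := Coprime.normal_subgroupOf_of_le_normalizer hMK
  obtain ⟨θ', hθ'⟩ := Char.exists_constituent (K.subgroupOf M) χ
  refine ⟨⟨fun k => θ'.1 ((Subgroup.subgroupOfEquivOfLe hKM).symm k),
    Char.IsIrrCharacter.comp_surjective θ'.2 (Subgroup.subgroupOfEquivOfLe hKM).symm.toMonoidHom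
      (Subgroup.subgroupOfEquivOfLe hKM).symm.surjective⟩, (over_inclusion_iff hKM _ _).2 ?_⟩
  convert hθ' using 3
  exact Subtype.ext <| funext fun x => congrArg θ'.1 ((Subgroup.subgroupOfEquivOfLe hKM).symm_apply_apply x)

/-- The conjugates of `θ` under `M`. -/
noncomputable def numConj (M : Subgroup G) (θ : IrrCharacter K) : ℕ :=
  Nat.card {η : IrrCharacter K // ∃ g ∈ M, ConjBy g θ η}

theorem numConj_pos (θ : IrrCharacter K) : 0 < numConj M θ := by
  haveI : Nonempty {η : IrrCharacter K // ∃ g ∈ M, ConjBy g θ η} :=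
    ⟨⟨θ, 1, one_mem M, conjBy_one θ⟩⟩
  exact Nat.card_pos

include hKM hMK in
theorem numConj_eq_card_orbit (θ : IrrCharacter K) :
    (haveI := Coprime.normal_subgroupOf_of_le_normalizer hMK
     numConj M θ = (Char.orbitFinset (K.subgroupOf M) (Char.toSubgroupOf K hKM θ)).card) := by
  haveI := Coprime.normal_subgroupOf_of_le_normalizer hMK
  let τ : IrrCharacter K → IrrCharacter (K.subgroupOf M) := Char.toSubgroupOf K hKM
  rw [numConj, Nat.card_eq_fintype_card, ← Finset.card_univ]
  refine Finset.card_bij (fun η _ => τ η.1) (fun η _ => ?_) (fun η _ η' _ he => ?_) fun ξ hξ => ?_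
  · obtain ⟨g, hg, hgη⟩ := η.2
    refine (Char.mem_orbitFinset _).2 ⟨⟨g, hg⟩, Subtype.ext (funext fun x => ?_)⟩
    rw [(conjBy_iff_conjIrr (hMK hg) θ η.1).1 hgη]
    rfl
  · refine Subtype.ext (Subtype.ext (funext fun k => ?_))
    exact congrFun (congrArg Subtype.val he) ⟨⟨k, hKM k.2⟩, k.2⟩
  · obtain ⟨g, rfl⟩ := (Char.mem_orbitFinset _).1 hξ
    exact ⟨⟨conjIrr (hMK g.2) θ, g, g.2, (conjBy_iff_conjIrr _ _ _).2 rfl⟩, Finset.mem_univ _, rfl⟩

include hMK in
/-- The multiplicity formula for the degree. -/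
theorem exists_degree_eq (θ : IrrCharacter K) (χ : IrrCharacter M)
    (hχ : Over (Subgroup.inclusion hKM) θ.1 χ.1) :
    ∃ e : ℕ, e ≠ 0 ∧ classInner (fun k => χ.1 (Subgroup.inclusion hKM k)) θ.1 = (e : ℂ) ∧
      χ.1 1 = (e : ℂ) * ((numConj M θ : ℂ) * θ.1 1) := by
  haveI := Coprime.normal_subgroupOf_of_le_normalizer hMK
  obtain ⟨e, he⟩ := Char.IsCharacter.exists_nat_classInner
    (Char.IsCharacter.comp (Char.irr_isCharacter χ) (Subgroup.inclusion hKM))
    (Char.irr_isCharacter θ)
  have he' : classInner (Char.resFun (K.subgroupOf M) χ.1) (Char.toSubgroupOf K hKM θ).1 = e := by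
    rw [← he]
    simp only [classInner, Nat.card_congr (Subgroup.subgroupOfEquivOfLe hKM).toEquiv]
    congr 1
    refine Fintype.sum_equiv (Subgroup.subgroupOfEquivOfLe hKM).toEquiv _ _ fun x => ?_
    rfl
  have h0 := (over_iff _ _ _).1 hχ
  refine ⟨e, fun h => h0 (by rw [he, h, Nat.cast_zero]), he, ?_⟩
  have := Char.apply_one_eq_mul_card_orbit (K.subgroupOf M) χ (Char.toSubgroupOf K hKM θ)
    ((over_inclusion_iff hKM θ _).1 hχ)
  rw [he', ← numConj_eq_card_orbit hKM hMK θ] at this
  rw [this]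
  congr 2

include hMK in
theorem degree_dvd_of_over (θ : IrrCharacter K) (χ : IrrCharacter M)
    (hχ : Over (Subgroup.inclusion hKM) θ.1 χ.1) :
    charDegree θ.1 ∣ charDegree χ.1 ∧ numConj M θ ∣ charDegree χ.1 := by
  obtain ⟨e, -, -, h⟩ := exists_degree_eq hKM hMK θ χ hχ
  rw [← Char.charDegree_cast, ← Char.charDegree_cast, ← Nat.cast_mul, ← Nat.cast_mul, Nat.cast_inj] at h
  exact ⟨⟨e * numConj M θ, by rw [h]; ring⟩, ⟨e * charDegree θ.1, by rw [h]; ring⟩⟩

/-- The number of characters over `θ` as a sum over commutators. -/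
theorem card_over_div (hKM : K ≤ M) (hMK : M ≤ Subgroup.normalizer (K : Set G))
    (θ : IrrCharacter K) :
    (Nat.card {χ : IrrCharacter M // Over (Subgroup.inclusion hKM) θ.1 χ.1} : ℂ) / numConj M θ =
      θ.1 1 / ((Nat.card M : ℂ) * Nat.card K) *
        ∑ g : M, ∑ y : M, conj (extendByZero K θ.1 ⁅(g : G), (y : G)⁆) := by
  classical
  have hcount : ∀ z : M, ((Finset.univ.filter fun q : M × M => ⁅q.1, q.2⁆ = z).card : ℂ) =
      (Nat.card M : ℂ) * ∑ χ : IrrCharacter M, χ.1 z / χ.1 1 := by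
    intro z
    have h1 := Char.card_commutator_eq z
    rw [Nat.card_eq_fintype_card (α := {q : M × M // q.1 * q.2 * q.1⁻¹ * q.2⁻¹ = z}),
      Fintype.card_subtype] at h1
    simp only [← commutatorElement_def] at h1
    have h2 := congrArg conj h1
    simp only [map_mul, map_sum, map_div₀, Complex.conj_natCast] at h2
    rw [h2]
    congr 1
    refine Finset.sum_congr rfl fun χ _ => ?_
    rw [Char.IsCharacter.conj_apply (Char.irr_isCharacter χ), inv_inv,
      Char.apply_one_eq_degree, Complex.conj_natCast]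
  have hsum : ∑ g : M, ∑ y : M, conj (extendByZero K θ.1 ⁅(g : G), (y : G)⁆) =
      (Nat.card M : ℂ) * ∑ χ : IrrCharacter M,
        (Nat.card K : ℂ) * classInner (fun k => χ.1 (Subgroup.inclusion hKM k)) θ.1 / χ.1 1 := by
    rw [← Fintype.sum_prod_type',
      ← Finset.sum_fiberwise Finset.univ (fun q : M × M => ⁅q.1, q.2⁆)]
    have hz : ∀ z : M, ∑ q ∈ (Finset.univ.filter fun q : M × M => ⁅q.1, q.2⁆ = z),
        conj (extendByZero K θ.1 ⁅(q.1 : G), (q.2 : G)⁆) =
        ((Nat.card M : ℂ) * ∑ χ : IrrCharacter M, χ.1 z / χ.1 1) *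
          conj (extendByZero K θ.1 (z : G)) := by
      intro z
      rw [Finset.sum_congr rfl fun q hq => by
        rw [show ⁅(q.1 : G), (q.2 : G)⁆ = (z : G) from
          congrArg Subtype.val (Finset.mem_filter.1 hq).2], Finset.sum_const, nsmul_eq_mul, hcount]
    rw [Finset.sum_congr rfl fun z _ => hz z]
    simp only [Finset.mul_sum, Finset.sum_mul]
    rw [Finset.sum_comm]
    refine Finset.sum_congr rfl fun χ _ => ?_
    rw [classInner, ← mul_assoc (Nat.card K : ℂ), mul_inv_cancel₀ Char.card_ne_zero, one_mul,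
      Finset.sum_div, Finset.mul_sum,
      ← Finset.sum_subset (Finset.subset_univ (Finset.univ.filter fun z : M => (z : G) ∈ K))
        fun z _ hz => ?_]
    · refine Finset.sum_bij' (fun z hz => (⟨z, (Finset.mem_filter.1 hz).2⟩ : K))
        (fun k _ => Subgroup.inclusion hKM k) (fun _ _ => Finset.mem_univ _)
        (fun k _ => Finset.mem_filter.2 ⟨Finset.mem_univ _, k.2⟩) (fun _ _ => rfl) (fun _ _ => rfl)
        fun z hz => ?_
      rw [Char.extendByZero_of_mem K _ (Finset.mem_filter.1 hz).2]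
      simp only [Subgroup.inclusion, MonoidHom.mk'_apply]
      ring_nf
    · rw [Char.extendByZero_of_notMem K _ fun h => hz
        (Finset.mem_filter.2 ⟨Finset.mem_univ _, h⟩), map_zero, mul_zero]
  rw [hsum, Nat.card_eq_fintype_card (α := {χ : IrrCharacter M // _}), Fintype.card_subtype,
    ← Finset.sum_boole, Finset.sum_div, Finset.mul_sum, Finset.mul_sum]
  refine Finset.sum_congr rfl fun χ _ => ?_
  have hM : (Nat.card M : ℂ) ≠ 0 := Char.card_ne_zero
  have hK : (Nat.card K : ℂ) ≠ 0 := Char.card_ne_zero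
  have h1 := Char.IsIrrCharacter.apply_one_ne_zero χ.2
  have hθ1 := Char.IsIrrCharacter.apply_one_ne_zero θ.2
  split_ifs with hχ
  · obtain ⟨e, he0, he, hdeg⟩ := exists_degree_eq hKM hMK θ χ hχ
    have he0' : (e : ℂ) ≠ 0 := Nat.cast_ne_zero.2 he0
    have hn : (numConj M θ : ℂ) ≠ 0 := Nat.cast_ne_zero.2 (numConj_pos θ).ne'
    rw [he, hdeg]
    field_simp
  · rw [over_iff, not_not] at hχ
    rw [hχ]
    simp

end OverSubgroup

section Decomposition

variable {G : Type u} [Group G] [Finite G] {L K M : Subgroup G} (hLK : L ≤ K) (hKM : K ≤ M)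
  (hMK : M ≤ Subgroup.normalizer (K : Set G)) (hL : L ≤ Subgroup.center G) (ν : L →* ℂ)

theorem central_inclusion (h : L ≤ M) (hL : L ≤ Subgroup.center G) (l : L) :
    Subgroup.inclusion h l ∈ Subgroup.center M :=
  Subgroup.mem_center_iff.2 fun g => Subtype.ext (Subgroup.mem_center_iff.1 (hL l.2) (g : G))

include hL in
/-- Constituents of a character over the central `ν` are over `ν`, and conversely. -/
theorem over_central_trans (θ : IrrCharacter K) (χ : IrrCharacter M)
    (hχ : Over (Subgroup.inclusion hKM) θ.1 χ.1) :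
    Over (Subgroup.inclusion (hLK.trans hKM)) ν χ.1 ↔ Over (Subgroup.inclusion hLK) ν θ.1 := by
  obtain ⟨ε, hε⟩ := exists_central_character _ (central_inclusion (hLK.trans hKM) hL) χ
  obtain ⟨δ, hδ⟩ := exists_central_character _ (central_inclusion hLK hL) θ
  have hεδ : ε = δ := by
    refine MonoidHom.ext fun l => ?_
    have hs : ∑ k : K, χ.1 (Subgroup.inclusion hKM k) * conj (θ.1 k) ≠ 0 := by
      rw [← finsum_eq_sum_of_fintype]; exact hχ
    have h1 : conj (δ l) * (ε l * ∑ k : K, χ.1 (Subgroup.inclusion hKM k) * conj (θ.1 k)) =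
        ∑ k : K, χ.1 (Subgroup.inclusion hKM k) * conj (θ.1 k) := by
      rw [Finset.mul_sum, Finset.mul_sum]
      refine Fintype.sum_equiv (Equiv.mulLeft (Subgroup.inclusion hLK l)) _ _ fun k => ?_
      show _ = χ.1 (Subgroup.inclusion hKM (Subgroup.inclusion hLK l * k)) *
        conj (θ.1 (Subgroup.inclusion hLK l * k))
      rw [hδ, map_mul (Subgroup.inclusion hKM),
        show Subgroup.inclusion hKM (Subgroup.inclusion hLK l) =
          Subgroup.inclusion (hLK.trans hKM) l from rfl, hε, map_mul (starRingEnd ℂ)]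
      ring
    rw [← mul_assoc, mul_left_eq_self₀] at h1
    have h2 := h1.resolve_right hs
    calc ε l = δ l * (conj (δ l) * ε l) := by
          rw [← mul_assoc, Char.normSq_linear, one_mul]
      _ = δ l := by rw [h2, mul_one]
  rw [over_central_iff _ (central_inclusion (hLK.trans hKM) hL),
    over_central_iff _ (central_inclusion hLK hL)]
  constructor
  · intro h l g
    have := h l 1
    rw [hε, mul_left_inj'] at this
    · rw [hδ, ← hεδ, this]
    · exact Char.IsIrrCharacter.apply_one_ne_zero χ.2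
  · intro h l g
    have := h l 1
    rw [hδ, mul_left_inj'] at this
    · rw [hε, hεδ, this]
    · exact Char.IsIrrCharacter.apply_one_ne_zero θ.2

include hMK hL in
/-- The count decomposes over a set `Θ` of characters of `K` meeting every relevant character. -/
theorem cnt_eq_sum (p : ℕ) (Θ : Finset (IrrCharacter K))
    (hΘ : ∀ θ ∈ Θ, Over (Subgroup.inclusion hLK) ν θ.1)
    (hcov : ∀ χ : IrrCharacter M, ¬ p ∣ charDegree χ.1 →
      Over (Subgroup.inclusion (hLK.trans hKM)) ν χ.1 →
        ∃ θ ∈ Θ, Over (Subgroup.inclusion hKM) θ.1 χ.1) :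
    (cnt p (Subgroup.inclusion (hLK.trans hKM)) ν : ℂ) =
      ∑ θ ∈ Θ, (cnt p (Subgroup.inclusion hKM) θ.1 : ℂ) /
        (Nat.card {η : IrrCharacter K // η ∈ Θ ∧ ∃ g ∈ M, ConjBy g θ η} : ℂ) := by
  classical
  simp only [cnt, Nat.card_eq_fintype_card, Fintype.card_subtype, ← Finset.sum_boole,
    Finset.sum_div]
  rw [Finset.sum_comm]
  refine Finset.sum_congr rfl fun χ _ => ?_
  by_cases hd : p ∣ charDegree χ.1
  · simp [hd]
  simp only [hd, not_false_eq_true, true_and]
  by_cases hν : Over (Subgroup.inclusion (hLK.trans hKM)) ν χ.1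
  · rw [if_pos hν]
    obtain ⟨θ₀, hθ₀, hθ₀χ⟩ := hcov χ hd hν
    set A := Θ.filter fun θ => Over (Subgroup.inclusion hKM) θ.1 χ.1
    have hA : ∀ θ ∈ A, (Finset.univ.filter fun η : IrrCharacter K =>
        η ∈ Θ ∧ ∃ g ∈ M, ConjBy g θ η) = A := by
      intro θ hθ
      obtain ⟨-, hθχ⟩ := Finset.mem_filter.1 hθ
      ext η
      simp only [A, Finset.mem_filter, Finset.mem_univ, true_and]
      refine and_congr_right fun _ => ⟨?_, fun h => exists_conjBy_of_over hKM hMK χ hθχ h⟩
      rintro ⟨g, hg, hgη⟩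
      exact over_conjBy hKM hMK hg hgη χ hθχ
    have h0 : θ₀ ∈ A := Finset.mem_filter.2 ⟨hθ₀, hθ₀χ⟩
    simp only [Finset.sum_boole]
    simp only [ite_div, zero_div]
    rw [← Finset.sum_filter]
    rw [Finset.sum_congr rfl fun θ hθ => by rw [hA θ hθ], Finset.sum_const, nsmul_eq_mul,
      mul_one_div, div_self]
    exact Nat.cast_ne_zero.2 (Finset.card_ne_zero.2 ⟨θ₀, h0⟩)
  · rw [if_neg hν, Finset.sum_eq_zero]
    intro θ hθ
    rw [if_neg fun h => hν ((over_central_trans hLK hKM hL ν θ χ h).2 (hΘ θ hθ)), zero_div]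

end Decomposition

section Factorisation

variable {G : Type u} [Group G] [Finite G] {M X H : Subgroup G} (hXM : X ≤ M) (hHM : H ≤ M)
  (hgen : ∀ g ∈ M, ∃ a ∈ H, ∃ k ∈ X, g = a * k)

include hXM hHM hgen in
theorem card_inf_mul_sum (f : G → ℂ) :
    (Nat.card (H ⊓ X : Subgroup G) : ℂ) * ∑ g : M, f g = ∑ a : H, ∑ k : X, f (a * k) := by
  classical
  rw [← Fintype.sum_prod_type',
    ← Finset.sum_fiberwise Finset.univ (fun q : H × X =>
      (⟨q.1 * q.2, mul_mem (hHM q.1.2) (hXM q.2.2)⟩ : M)), Finset.mul_sum]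
  refine Finset.sum_congr rfl fun g _ => ?_
  obtain ⟨a, ha, k, hk, hg⟩ := hgen g g.2
  rw [Finset.sum_congr rfl fun q hq => by
      rw [show (q.1 : G) * q.2 = g from congrArg Subtype.val (Finset.mem_filter.1 hq).2],
    Finset.sum_const, nsmul_eq_mul]
  congr 2
  rw [Nat.card_eq_fintype_card, ← Finset.card_univ]
  refine Finset.card_bij
    (fun c _ => ((⟨a * c, mul_mem ha c.2.1⟩, ⟨(c : G)⁻¹ * k, mul_mem (inv_mem c.2.2) hk⟩) : H × X))
    (fun c _ => Finset.mem_filter.2 ⟨Finset.mem_univ _, Subtype.ext ?_⟩)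
    (fun c _ d _ h => Subtype.ext ?_) fun q hq => ?_
  · show a * (c : G) * ((c : G)⁻¹ * k) = g
    rw [hg]; group
  · exact mul_left_cancel (congrArg (fun x : H × X => (x.1 : G)) h)
  · have hq' : (q.1 : G) * q.2 = a * k :=
      (congrArg Subtype.val (Finset.mem_filter.1 hq).2).trans hg
    have hc : a⁻¹ * (q.1 : G) = k * (q.2 : G)⁻¹ := by
      rw [eq_mul_inv_iff_mul_eq, mul_assoc, hq', inv_mul_cancel_left]
    refine ⟨⟨a⁻¹ * q.1, H.mul_mem (H.inv_mem ha) q.1.2, hc ▸ X.mul_mem hk (X.inv_mem q.2.2)⟩,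
      Finset.mem_univ _, Prod.ext (Subtype.ext (mul_inv_cancel_left a _)) (Subtype.ext ?_)⟩
    show (a⁻¹ * (q.1 : G))⁻¹ * k = q.2
    rw [hc]; group

include hXM hHM hgen in
theorem card_mul_card_inf :
    (Nat.card M : ℂ) * Nat.card (H ⊓ X : Subgroup G) = (Nat.card H : ℂ) * Nat.card X := by
  have := card_inf_mul_sum hXM hHM hgen fun _ => 1
  simp only [Finset.sum_const, Finset.card_univ, nsmul_eq_mul, mul_one,
    ← Nat.card_eq_fintype_card] at this
  rw [mul_comm, this]

include hXM hHM hgen in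
theorem card_over_div_omega (hMX : M ≤ Subgroup.normalizer (X : Set G)) (θ : IrrCharacter X) :
    (Nat.card {χ : IrrCharacter M // Over (Subgroup.inclusion hXM) θ.1 χ.1} : ℂ) / numConj M θ *
        ((Nat.card H : ℂ) * Nat.card (H ⊓ X : Subgroup G)) =
      ∑ a : H, ∑ b : H, omega X θ a b := by
  rw [card_over_div hXM hMX]
  have hH : (Nat.card (H ⊓ X : Subgroup G) : ℂ) ≠ 0 := Char.card_ne_zero
  have hM : (Nat.card M : ℂ) ≠ 0 := Char.card_ne_zero
  have hX : (Nat.card X : ℂ) ≠ 0 := Char.card_ne_zero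
  set c := (Nat.card (H ⊓ X : Subgroup G) : ℂ)
  have hsum : c * c * ∑ g : M, ∑ y : M, conj (extendByZero X θ.1 ⁅(g : G), (y : G)⁆) =
      ∑ a : H, ∑ b : H, pairSum X (extendByZero X θ.1) a b := by
    calc c * c * ∑ g : M, ∑ y : M, conj (extendByZero X θ.1 ⁅(g : G), (y : G)⁆)
        = c * ∑ g : M, ∑ b : H, ∑ l : X, conj (extendByZero X θ.1 ⁅(g : G), (b : G) * l⁆) := by
          rw [mul_assoc, Finset.mul_sum]
          congr 1
          exact Finset.sum_congr rfl fun g _ =>
            card_inf_mul_sum hXM hHM hgen fun y => conj (extendByZero X θ.1 ⁅(g : G), y⁆)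
      _ = ∑ a : H, ∑ k : X, ∑ b : H, ∑ l : X,
            conj (extendByZero X θ.1 ⁅(a : G) * k, (b : G) * l⁆) :=
          card_inf_mul_sum hXM hHM hgen fun g =>
            ∑ b : H, ∑ l : X, conj (extendByZero X θ.1 ⁅g, (b : G) * l⁆)
      _ = _ := Finset.sum_congr rfl fun a _ => by
          rw [Finset.sum_comm]
          exact Finset.sum_congr rfl fun b _ => (pairSum_eq _).symm
  simp only [omega]
  simp only [← Finset.mul_sum, ← hsum]
  have hc := card_mul_card_inf hXM hHM hgen
  field_simp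
  linear_combination (-(θ.1 1 * ∑ g : M, ∑ y : M,
    conj (extendByZero X θ.1 ⁅(g : G), (y : G)⁆))) * hc

end Factorisation

end Cfsg.Agent.RelMcKay
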