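import Cfsg.Agent.Lib.RelativeMcKay.Semidirect
import Mathlib.GroupTheory.SchurZassenhaus

/-!
# The last case of the relative McKay count

`L` is central, `K / L` a `p'`-group, `K` and `K S` normal for a Sylow `p`-subgroup `S`: the
numbers of characters of degree prime to `p` over `ν` in `G` and in `N_G(S)` are both sums of
commutator sums, identified by the Glauberman correspondence.
-/

set_option autoImplicit false
set_option linter.style.haveILetI false
set_option linter.unusedSectionVars false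

namespace Cfsg.Agent.RelMcKay

open Cfsg
open scoped ComplexConjugate commutatorElement

attribute [local instance high] subgroupFintype
attribute [local instance 10] Fintype.ofFinite

universe u

variable {G : Type u} [Group G] [Finite G] {p : ℕ} [hp : Fact p.Prime]

/-- The `p'`-part of a group containing a central subgroup with `p'`-quotient. -/
theorem exists_pPrime_part (L K : Subgroup G) [K.Normal] (hL : L ≤ Subgroup.center G) (hLK : L ≤ K)
    (hKp : ¬ p ∣ L.relIndex K) (S : Sylow p G) :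
    ∃ K₀ : Subgroup G, K₀.Normal ∧ K₀ ≤ K ∧ ¬ p ∣ Nat.card K₀ ∧
      ∀ x ∈ K, ∃ k ∈ K₀, ∃ y ∈ L ⊓ (S : Subgroup G), x = k * y := by
  set Z := L ⊓ (S : Subgroup G) with hZ
  have hZL : Z ≤ L := inf_le_left
  have hZc : Z ≤ Subgroup.center G := hZL.trans hL
  have hZp : IsPGroup p Z := S.2.to_le inf_le_right
  have hZK : Z ≤ K := hZL.trans hLK
  have hLS : ¬ p ∣ Z.relIndex L := by
    have h1 : Z.relIndex L = (S : Subgroup G).relIndex (L ⊔ S) := by
      rw [Coprime.relIndex_sup_right_of_le_normalizer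
        (hL.trans (Subgroup.center_le_normalizer _)), hZ, Subgroup.inf_relIndex_left]
    have h2 := Subgroup.relIndex_mul_index (le_sup_right : (S : Subgroup G) ≤ L ⊔ S)
    intro hd
    rw [h1] at hd
    exact S.not_dvd_index (h2 ▸ dvd_mul_of_dvd_left hd _)
  have hidx : ¬ p ∣ Z.relIndex K := by
    rw [← Subgroup.relIndex_mul_relIndex Z L K hZL hLK]
    exact fun h => (hp.out.dvd_mul.1 h).elim hLS hKp
  haveI : (Z.subgroupOf K).Normal := Coprime.normal_subgroupOf_of_le_normalizer fun k _ =>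
    Subgroup.mem_normalizer_iff.2 fun z => by
      constructor
      · intro hz
        rwa [Subgroup.mem_center_iff.1 (hZc hz) k, mul_inv_cancel_right]
      · intro hz
        have := Subgroup.mem_center_iff.1 (hZc hz) k
        have hz' : k * z * k⁻¹ = z := by
          have h3 : k⁻¹ * (k * (k * z * k⁻¹)) = k⁻¹ * ((k * z * k⁻¹) * k) := by rw [this]
          simpa [mul_assoc] using h3
        rwa [hz'] at hz
  obtain ⟨m, hm⟩ := IsPGroup.iff_card.1 hZp
  have hcop : (Nat.card (Z.subgroupOf K)).Coprime (Z.subgroupOf K).index := by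
    rw [Coprime.card_subgroupOf hZK, hm]
    exact ((hp.out.coprime_iff_not_dvd).2 hidx).pow_left m
  obtain ⟨B, hB⟩ := Subgroup.exists_right_complement'_of_coprime hcop
  set K₀ := B.map K.subtype
  have hK₀K : K₀ ≤ K := Subgroup.map_subtype_le _
  have hK₀p : ¬ p ∣ Nat.card K₀ := by
    rw [Subgroup.card_map_of_injective K.subtype_injective, ← hB.symm.index_eq_card]
    exact hidx
  have hdec : ∀ x ∈ K, ∃ k ∈ K₀, ∃ y ∈ Z, x = k * y := by
    intro x hx
    obtain ⟨⟨⟨z, hz⟩, ⟨b, hb⟩⟩, he⟩ := hB.2 ⟨x, hx⟩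
    refine ⟨b, ⟨b, hb, rfl⟩, z, Subgroup.mem_subgroupOf.1 hz, ?_⟩
    have he' : (z : G) * b = x := congrArg Subtype.val he
    rw [← he', Subgroup.mem_center_iff.1 (hZc (Subgroup.mem_subgroupOf.1 hz)) (b : G)]
  have hchar : ∀ x ∈ K, ¬ p ∣ orderOf x → x ∈ K₀ := by
    intro x hx hxo
    refine mem_left_of_not_dvd hZp ((hZc.trans (Subgroup.center_le_normalizer _))) ?_ hxo
    obtain ⟨k, hk, y, hy, rfl⟩ := hdec x hx
    exact mul_mem (Subgroup.mem_sup_left hk) (Subgroup.mem_sup_right hy)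
  refine ⟨K₀, ⟨fun x hx g => hchar _ (‹K.Normal›.conj_mem x (hK₀K hx) g) fun hd => hK₀p ?_⟩,
    hK₀K, hK₀p, hdec⟩
  refine hd.trans ?_
  rw [← MulAut.conj_apply, MulEquiv.orderOf_eq]
  exact Subgroup.orderOf_dvd_natCard K₀ hx

theorem normalizer_sup_of_central {L : Subgroup G} (hL : L ≤ Subgroup.center G) (S : Sylow p G) :
    Subgroup.normalizer ((L ⊔ S : Subgroup G) : Set G) =
      Subgroup.normalizer ((S : Subgroup G) : Set G) := by
  refine le_antisymm (fun g hg => ?_) ?_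
  · have hnorm : L ⊔ (S : Subgroup G) ≤ Subgroup.normalizer ((S : Subgroup G) : Set G) :=
      sup_le (hL.trans (Subgroup.center_le_normalizer _)) Subgroup.le_normalizer
    haveI : ((S : Subgroup G).subgroupOf (L ⊔ S)).Normal :=
      Coprime.normal_subgroupOf_of_le_normalizer hnorm
    have hsub : ∀ s ∈ (S : Subgroup G), g * s * g⁻¹ ∈ (S : Subgroup G) := by
      intro s hs
      -- a `p`-element of `L S` lies in `S`
      have hmem : g * s * g⁻¹ ∈ L ⊔ (S : Subgroup G) :=
        (conj_mem_iff hg s).2 (Subgroup.mem_sup_right hs)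
      let Q : Sylow p (L ⊔ S : Subgroup G) := S.subtype le_sup_right
      haveI : Q.toSubgroup.Normal := by
        rw [Sylow.coe_subtype]; infer_instance
      obtain ⟨k, hk⟩ := S.2 ⟨s, hs⟩
      have hle : Subgroup.zpowers (⟨g * s * g⁻¹, hmem⟩ : (L ⊔ S : Subgroup G)) ≤ Q.toSubgroup := by
        have hpg : IsPGroup p (Subgroup.zpowers (⟨g * s * g⁻¹, hmem⟩ : (L ⊔ S : Subgroup G))) := by
          refine IsPGroup.of_card (n := (Nat.card (Subgroup.zpowers
            (⟨g * s * g⁻¹, hmem⟩ : (L ⊔ S : Subgroup G)))).factorization p) ?_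
          have hdvd : Nat.card (Subgroup.zpowers (⟨g * s * g⁻¹, hmem⟩ : (L ⊔ S : Subgroup G))) ∣
              p ^ k := by
            rw [Nat.card_zpowers, orderOf_dvd_iff_pow_eq_one]
            refine Subtype.ext ?_
            rw [SubmonoidClass.coe_pow, conj_pow]
            have hk' : s ^ p ^ k = 1 := congrArg Subtype.val hk
            rw [hk']
            simp
          obtain ⟨i, -, hi⟩ := (Nat.dvd_prime_pow hp.out).1 hdvd
          rw [hi, hp.out.factorization_pow]
          simp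
        obtain ⟨Q', hQ'⟩ := hpg.exists_le_sylow
        haveI := Sylow.unique_of_normal Q inferInstance
        rw [Subsingleton.elim Q' Q] at hQ'
        exact hQ'
      have := hle (Subgroup.mem_zpowers _)
      rw [Sylow.coe_subtype, Subgroup.mem_subgroupOf] at this
      exact this
    refine Subgroup.mem_normalizer_iff.2 fun x => ⟨hsub x, fun hx => ?_⟩
    have hmap : (S : Subgroup G).map (MulAut.conj g).toMonoidHom = S :=
      Subgroup.eq_of_le_of_card_ge (by rintro _ ⟨y, hy, rfl⟩; exact hsub y hy)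
        (Subgroup.card_map_of_injective (MulAut.conj g).injective).ge
    rw [← hmap] at hx
    obtain ⟨y, hy, he⟩ := hx
    exact (MulAut.conj g).injective he ▸ hy
  · exact fun g hg => Subgroup.normalizer_inf_normalizer_le_normalizer_sup L _
      ⟨Subgroup.mem_normalizer_iff.2 fun x => by
        constructor
        · intro hx; rwa [Subgroup.mem_center_iff.1 (hL hx) g, mul_inv_cancel_right]
        · intro hx
          have h := Subgroup.mem_center_iff.1 (hL hx) g⁻¹
          have h' : x = g * x * g⁻¹ := by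
            have := congrArg (fun z => z * g) h
            simpa [mul_assoc] using this
          exact h' ▸ hx, hg⟩

/-- The final case. -/
theorem cnt_eq_of_normal_sup (L K : Subgroup G) [K.Normal] (hL : L ≤ Subgroup.center G)
    (hLK : L ≤ K) (hKp : ¬ p ∣ L.relIndex K) (S : Sylow p G)
    (hX : (K ⊔ (S : Subgroup G)).Normal) (ν : L →* ℂ)
    (hLN : L ≤ Subgroup.normalizer ((L ⊔ S : Subgroup G) : Set G)) :
    cnt p L.subtype ν = cnt p (Subgroup.inclusion hLN) ν := by
  classical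
  obtain ⟨K₀, hK₀n, hK₀K, hK₀p, hdec⟩ := exists_pPrime_part L K hL hLK hKp S
  haveI := hK₀n
  have hSp : IsPGroup p (S : Subgroup G) := S.2
  set N := Subgroup.normalizer ((L ⊔ S : Subgroup G) : Set G) with hN
  have hNS : N = Subgroup.normalizer ((S : Subgroup G) : Set G) := normalizer_sup_of_central hL S
  have hSN : (S : Subgroup G) ≤ N := hNS ▸ Subgroup.le_normalizer
  have hnK : ∀ T : Subgroup G, T ≤ Subgroup.normalizer (K₀ : Set G) := fun T => by
    rw [Subgroup.normalizer_eq_top]; exact le_top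
  have hKX : K ≤ K₀ ⊔ (S : Subgroup G) := fun x hx => by
    obtain ⟨k, hk, y, hy, rfl⟩ := hdec x hx
    exact mul_mem (Subgroup.mem_sup_left hk) (Subgroup.mem_sup_right hy.2)
  have hXeq : K ⊔ (S : Subgroup G) = K₀ ⊔ S :=
    le_antisymm (sup_le hKX le_sup_right) (sup_le_sup_right hK₀K _)
  haveI hXn : (K₀ ⊔ (S : Subgroup G)).Normal := hXeq ▸ hX
  -- a complement of `S` in its normaliser
  haveI hSnN : ((S : Subgroup G).subgroupOf N).Normal :=
    Coprime.normal_subgroupOf_of_le_normalizer (le_of_eq hNS)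
  have hidxN : ¬ p ∣ ((S : Subgroup G).subgroupOf N).index := fun h =>
    S.not_dvd_index ((Subgroup.relIndex_mul_index hSN) ▸ dvd_mul_of_dvd_left h _)
  obtain ⟨m, hm⟩ := IsPGroup.iff_card.1 hSp
  obtain ⟨B, hB⟩ := Subgroup.exists_right_complement'_of_coprime
    (N := (S : Subgroup G).subgroupOf N) (by
      rw [Coprime.card_subgroupOf hSN, hm]
      exact ((hp.out.coprime_iff_not_dvd).2 hidxN).pow_left m)
  set H := B.map N.subtype with hH
  have hHN : H ≤ N := Subgroup.map_subtype_le _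
  have hHp : ¬ p ∣ Nat.card H := by
    rw [Subgroup.card_map_of_injective N.subtype_injective, ← hB.symm.index_eq_card]
    exact hidxN
  have hNdec : ∀ g ∈ N, ∃ h ∈ H, ∃ s ∈ (S : Subgroup G), g = h * s := by
    intro g hg
    obtain ⟨⟨⟨z, hz⟩, ⟨b, hb⟩⟩, he⟩ := hB.2 ⟨g, hg⟩
    have he' : (z : G) * b = g := congrArg Subtype.val he
    refine ⟨b, ⟨b, hb, rfl⟩, (b : G)⁻¹ * z * (b : G)⁻¹⁻¹, ?_, by rw [← he']; group⟩
    exact (conj_mem_iff (hNS ▸ Subgroup.inv_mem N b.2 : (b : G)⁻¹ ∈ _) _).2 (Subgroup.mem_subgroupOf.1 hz)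
  have hHS : H ≤ Subgroup.normalizer ((S : Subgroup G) : Set G) := hNS ▸ hHN
  -- the fixed points
  set C := K₀ ⊓ Subgroup.centralizer ((S : Subgroup G) : Set G) with hC
  have hCK : C ≤ K₀ := inf_le_left
  have hSC : (S : Subgroup G) ≤ Subgroup.normalizer (C : Set G) := fun s hs =>
    normalizes_fix hC (Subgroup.le_normalizer hs) (hnK _ hs)
  have hHC : H ≤ Subgroup.normalizer (C : Set G) := fun a ha =>
    normalizes_fix hC (hHS ha) (hnK _ ha)
  have hdis : (S : Subgroup G) ⊓ K₀ = ⊥ := inf_eq_bot_of_pGroup hSp hK₀p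
  have hK₀N : ∀ x ∈ K₀, x ∈ N → x ∈ C := by
    intro x hx hxN
    refine ⟨hx, Subgroup.mem_centralizer_iff.2 fun s hs => ?_⟩
    have h1 : x * s * x⁻¹ * s⁻¹ ∈ (S : Subgroup G) ⊓ K₀ := by
      have hxS : x ∈ Subgroup.normalizer ((S : Subgroup G) : Set G) := by rw [← hNS]; exact hxN
      refine ⟨Subgroup.mul_mem _ ((conj_mem_iff hxS s).2 hs) (Subgroup.inv_mem _ hs), ?_⟩
      have := K₀.mul_mem hx (hK₀n.conj_mem _ (K₀.inv_mem hx) s)
      simpa [mul_assoc] using this
    rw [hdis, Subgroup.mem_bot, mul_inv_eq_one, mul_inv_eq_iff_eq_mul] at h1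
    exact h1.symm
  have hCH : C ≤ H := by
    -- `C` is a normal `p'`-subgroup of `N`
    have hCN : C ≤ N := hNS ▸ inf_le_right.trans (Subgroup.centralizer_le_normalizer _)
    intro x hx
    obtain ⟨h, hh, s, hs, rfl⟩ := hNdec x (hCN hx)
    have hsH : h * s ∈ C ⊔ H := Subgroup.mem_sup_left hx
    have hs1 : s = 1 := by
      have hmem : s ∈ H ⊔ C := by
        have := Subgroup.mul_mem _ (Subgroup.mem_sup_left (T := C) (H.inv_mem hh) : h⁻¹ ∈ H ⊔ C)
          (Subgroup.mem_sup_right hx : h * s ∈ H ⊔ C)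
        rwa [inv_mul_cancel_left] at this
      have hdvd : Nat.card (H ⊔ C : Subgroup G) ∣ Nat.card H * Nat.card C := by
        have h2 := (C.subgroupOf (H ⊔ C)).card_mul_index
        rw [Coprime.card_subgroupOf le_sup_right] at h2
        rw [← h2, mul_comm (Nat.card H)]
        refine Nat.mul_dvd_mul_left _ ?_
        show C.relIndex (H ⊔ C) ∣ _
        rw [Coprime.relIndex_sup_right_of_le_normalizer hHC]
        exact Subgroup.index_dvd_card _
      have h3 : s ∈ (S : Subgroup G) ⊓ (H ⊔ C) := ⟨hs, hmem⟩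
      rw [inf_eq_bot_of_pGroup hSp fun h => ?_, Subgroup.mem_bot] at h3
      · exact h3
      · exact (hp.out.dvd_mul.1 (h.trans hdvd)).elim hHp
          fun h => hK₀p (h.trans (Subgroup.card_dvd_of_le hCK))
    rw [hs1, mul_one]
    exact hh
  have hinf : H ⊓ K₀ = C := le_antisymm (fun x hx => hK₀N x hx.2 (hHN hx.1)) (le_inf hCH hCK)
  have hinfC : H ⊓ C = C := inf_eq_right.2 hCH
  have hLC : L ⊓ K₀ = L ⊓ C := le_antisymm
    (fun x hx => ⟨hx.1, hx.2, Subgroup.mem_centralizer_iff.2 fun s _ =>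
      Subgroup.mem_center_iff.1 (hL hx.1) s⟩) (inf_le_inf_left L hCK)
  have hsplit : ∀ l ∈ L, ∃ x ∈ L ⊓ K₀, ∃ y ∈ L ⊓ (S : Subgroup G), l = x * y := by
    intro l hl
    obtain ⟨k, hk, y, hy, rfl⟩ := hdec l (hLK hl)
    refine ⟨k, ⟨?_, hk⟩, y, hy, rfl⟩
    simpa using L.mul_mem hl (L.inv_mem hy.1)
  have hgenN : ∀ g ∈ N, ∃ a ∈ H, ∃ k ∈ C ⊔ (S : Subgroup G), g = a * k := fun g hg => by
    obtain ⟨h, hh, s, hs, rfl⟩ := hNdec g hg
    exact ⟨h, hh, s, Subgroup.mem_sup_right hs, rfl⟩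
  have hgenG : ∀ g ∈ (⊤ : Subgroup G), ∃ a ∈ H, ∃ k ∈ K₀ ⊔ (S : Subgroup G), g = a * k := by
    intro g _
    let Q : Sylow p (K₀ ⊔ (S : Subgroup G) : Subgroup G) := S.subtype le_sup_right
    have h1 := Sylow.normalizer_sup_eq_top Q
    rw [show (Q : Subgroup (K₀ ⊔ (S : Subgroup G) : Subgroup G)).map
      (K₀ ⊔ (S : Subgroup G)).subtype = (S : Subgroup G) from by
        rw [Sylow.coe_subtype, Subgroup.map_subgroupOf_eq_of_le le_sup_right]] at h1
    have hg : g ∈ Subgroup.normalizer ((S : Subgroup G) : Set G) ⊔ (K₀ ⊔ (S : Subgroup G)) :=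
      h1 ▸ Subgroup.mem_top g
    obtain ⟨n, hn, x, hx, rfl⟩ := Subgroup.mem_sup_of_normal_right.1 hg
    obtain ⟨h, hh, s, hs, rfl⟩ := hNdec n (hNS ▸ hn)
    exact ⟨h, hh, s * x, mul_mem (Subgroup.mem_sup_right hs) hx, mul_assoc _ _ _⟩
  -- the two counts
  haveI : Finite ((S : Subgroup G) →* ℂ) := Finite.of_injective _ Char.linIrr_injective
  have htop : cnt p L.subtype ν = cnt p (Subgroup.inclusion (le_top : L ≤ ⊤)) ν :=
    cnt_congr p Subgroup.topEquiv.symm (MulEquiv.refl L) (fun _ => rfl) (fun _ => rfl)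
  have eG := cnt_mul_eq_sum ⊤ K₀ S H L hSp hK₀p hHp (hnK _) le_top le_top le_top
    (by rw [Subgroup.normalizer_eq_top]) hHS (hnK _) hgenG hL hsplit le_top ν
  have hCp : ¬ p ∣ Nat.card C := fun h => hK₀p (h.trans (Subgroup.card_dvd_of_le hCK))
  have hNX : N ≤ Subgroup.normalizer ((C ⊔ S : Subgroup G) : Set G) := fun g hg =>
    Subgroup.normalizer_inf_normalizer_le_normalizer_sup C _
      ⟨normalizes_fix hC (hNS ▸ hg) (by rw [Subgroup.normalizer_eq_top]; trivial), hNS ▸ hg⟩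
  have eN := cnt_mul_eq_sum N C S H L hSp hCp hHp hSC (hCH.trans hHN) hSN hHN hNX hHS hHC hgenN hL
    (fun l hl => by rw [← hLC]; exact hsplit l hl) hLN ν
  rw [hinf] at eG
  rw [hinfC] at eN
  rw [htop]
  apply Nat.cast_injective (R := ℂ)
  refine mul_right_cancel₀ (mul_ne_zero (Char.card_ne_zero (G := H)) (Char.card_ne_zero (G := C)))
    (eG.trans (Eq.trans ?_ eN.symm))
  refine Finset.sum_congr rfl fun a _ => Finset.sum_congr rfl fun b _ => ?_
  -- the Glauberman correspondence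
  have hSK : (S : Subgroup G) ≤ Subgroup.normalizer (K₀ : Set G) := hnK _
  have hz : ∀ z : (L ⊓ K₀ : Subgroup G), (z : G) ∈ C := fun z => (hLC ▸ z.2 : (z : G) ∈ L ⊓ C).2
  have hcen₀ := central_inclusion (inf_le_right : L ⊓ K₀ ≤ K₀)
    ((inf_le_left : L ⊓ K₀ ≤ L).trans hL)
  have hcenC := central_inclusion (inf_le_right : L ⊓ C ≤ C)
    ((inf_le_left : L ⊓ C ≤ L).trans hL)
  have hover : ∀ (θ : IrrCharacter K₀) (φ : IrrCharacter C), IsCorr p hCK θ φ →
      (Over (Subgroup.inclusion (inf_le_right : L ⊓ K₀ ≤ K₀))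
          (ν.comp (Subgroup.inclusion (inf_le_left : L ⊓ K₀ ≤ L))) θ.1 ↔
        Over (Subgroup.inclusion (inf_le_right : L ⊓ C ≤ C))
          (ν.comp (Subgroup.inclusion (inf_le_left : L ⊓ C ≤ L))) φ.1) := by
    intro θ φ hθφ
    have hcm : Over (Subgroup.inclusion hCK) φ.1 θ.1 := (over_iff _ _ _).2 (by
      rw [resMult_eq]
      exact Nat.cast_ne_zero.2 fun h => hθφ.not_dvd (h ▸ dvd_zero p))
    have hLCC : L ⊓ C ≤ C := inf_le_right
    have e1 := over_central_trans (M := K₀) hLCC hCK ((inf_le_left : L ⊓ C ≤ L).trans hL)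
      (ν.comp (Subgroup.inclusion (inf_le_left : L ⊓ C ≤ L))) φ θ hcm
    refine Iff.trans ?_ e1
    rw [over_central_iff _ hcen₀, over_central_iff _
      (central_inclusion (hLCC.trans hCK) ((inf_le_left : L ⊓ C ≤ L).trans hL))]
    constructor
    · intro h l g
      exact h ⟨(l : G), hLC.symm ▸ l.2⟩ g
    · intro h l g
      exact h ⟨(l : G), hLC ▸ l.2⟩ g
  set Lam := {lam : (S : Subgroup G) →* ℂ //
    ∀ y : G, ∀ (h : y ∈ L) (h' : y ∈ (S : Subgroup G)), lam ⟨y, h'⟩ = ν ⟨y, h⟩}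
  refine Finset.sum_bij (fun θ hθ => (exists_isCorr hSp hK₀p hSK hC hCK θ
    (Finset.mem_filter.1 hθ).2.1).choose) (fun θ hθ => ?_) (fun θ hθ θ' hθ' he => ?_)
    (fun φ hφ => ?_) fun θ hθ => ?_
  · have hc := (exists_isCorr hSp hK₀p hSK hC hCK θ (Finset.mem_filter.1 hθ).2.1).choose_spec
    refine Finset.mem_filter.2 ⟨Finset.mem_univ _, fun s hs => ?_,
      (hover θ _ hc).1 (Finset.mem_filter.1 hθ).2.2⟩
    exact (isCorr_fixes_iff hSp hK₀p hSK hC hCK (Finset.mem_filter.1 hθ).2.1 hc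
      (Subgroup.le_normalizer hs) (hSK hs)).1 ((Finset.mem_filter.1 hθ).2.1 s hs)
  · have hc := (exists_isCorr hSp hK₀p hSK hC hCK θ (Finset.mem_filter.1 hθ).2.1).choose_spec
    have hc' := (exists_isCorr hSp hK₀p hSK hC hCK θ' (Finset.mem_filter.1 hθ').2.1).choose_spec
    rw [← he] at hc'
    exact isCorr_left_unique hSp hK₀p hSK hC hCK (Finset.mem_filter.1 hθ).2.1
      (Finset.mem_filter.1 hθ').2.1 hc hc'
  · obtain ⟨θ, hfix, hc⟩ := exists_isCorr_left hSp hK₀p hSK hC hCK φ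
    refine ⟨θ, Finset.mem_filter.2 ⟨Finset.mem_univ _, hfix,
      (hover θ φ hc).2 (Finset.mem_filter.1 hφ).2.2⟩, ?_⟩
    exact hc.right_unique (exists_isCorr hSp hK₀p hSK hC hCK θ hfix).choose_spec
  · have hfix := (Finset.mem_filter.1 hθ).2.1
    have hc := (exists_isCorr hSp hK₀p hSK hC hCK θ hfix).choose_spec
    refine Finset.sum_congr rfl fun lam _ => ?_
    have hab : ⁅(a : G), (b : G)⁆ ∈ H := by
      rw [commutatorElement_def]
      exact H.mul_mem (H.mul_mem (H.mul_mem a.2 b.2) (H.inv_mem a.2)) (H.inv_mem b.2)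
    have hiff : ⁅(a : G), (b : G)⁆ ∈ K₀ ↔ ⁅(a : G), (b : G)⁆ ∈ C :=
      ⟨fun h => hK₀N _ h (hHN hab), fun h => hCK h⟩
    by_cases hcond : ⁅(a : G), (b : G)⁆ ∈ K₀ ∧ Fixes (extendByZero (S : Subgroup G) lam.1) a ∧
        Fixes (extendByZero (S : Subgroup G) lam.1) b
    · rw [if_pos hcond, if_pos ⟨hiff.1 hcond.1, hcond.2⟩]
      have habC := hiff.1 hcond.1
      by_cases hfa : Fixes (extendByZero K₀ θ.1) (a : G)
      swap
      · rw [omega_eq_zero_left θ (hnK H a.2) (hnK H b.2) hcond.1 hfa,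
          omega_eq_zero_left _ (hHC a.2) (hHC b.2) habC fun h => hfa
            ((isCorr_fixes_iff hSp hK₀p hSK hC hCK hfix hc (hHS a.2) (hnK H a.2)).2 h)]
      by_cases hfb : Fixes (extendByZero K₀ θ.1) (b : G)
      swap
      · rw [omega_eq_zero_right θ (hnK H a.2) (hnK H b.2) hcond.1 hfb,
          omega_eq_zero_right _ (hHC a.2) (hHC b.2) habC fun h => hfb
            ((isCorr_fixes_iff hSp hK₀p hSK hC hCK hfix hc (hHS b.2) (hnK H b.2)).2 h)]
      exact omega_eq_of_isCorr _ (S : Subgroup G) K₀ C H rfl hSp hK₀p hSK hC hHp hHS (hnK H) hCK θ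
        _ hfix hc a a.2 b b.2 habC hfa hfb
    · rw [if_neg hcond, if_neg fun h => hcond ⟨hiff.2 h.1, h.2⟩]

end Cfsg.Agent.RelMcKay
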