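import Cfsg.Agent.Lib.RelativeMcKay.Count
import Cfsg.Agent.Lib.Char.CliffordGallagher
import Cfsg.Agent.Lib.IsaacsCorr.Build

/-!
# Reductions for the relative McKay count

* `cnt_inertia`: Clifford induction from an inertia group of index prime to `p`;
* `cnt_of_cover`: a covering replaces an invariant character by a linear character of a central
  subgroup;
* `exists_fixed_over`, `exists_conjBy_normalizer`: fixed constituents and Sylow fusion.
-/

set_option autoImplicit false
set_option linter.style.haveILetI false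
set_option linter.unusedSectionVars false

namespace Cfsg.Agent.RelMcKay

open Cfsg
open scoped ComplexConjugate commutatorElement Pointwise

attribute [local instance high] subgroupFintype
attribute [local instance 10] Fintype.ofFinite

universe u v

variable {p : ℕ} [hp : Fact p.Prime]

section Inertia

variable {G : Type u} [Group G] [Finite G] (N : Subgroup G) [N.Normal]

/-- Clifford induction from an inertia group of index prime to `p`. -/
theorem cnt_inertia (θ : IrrCharacter N) (h : ¬ p ∣ (Char.inertia N θ.1).index) :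
    cnt p N.subtype θ.1 = cnt p (Subgroup.inclusion (Char.irr_le_inertia N θ)) θ.1 := by
  classical
  letI : Fintype G := Fintype.ofFinite G
  let e := Char.cliffordEquiv N θ
  have hover : ∀ χ : G → ℂ, Over N.subtype θ.1 χ ↔ classInner (Char.resFun N χ) θ.1 ≠ 0 :=
    fun χ => over_iff _ _ _
  have hover' : ∀ ψ : Char.inertia N θ.1 → ℂ,
      Over (Subgroup.inclusion (Char.irr_le_inertia N θ)) θ.1 ψ ↔
        classInner (Char.resIncl N (Char.irr_le_inertia N θ) ψ) θ.1 ≠ 0 :=
    fun ψ => over_iff _ _ _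
  have hdeg : ∀ x, charDegree (e x).1.1 = (Char.inertia N θ.1).index * charDegree x.1.1 := by
    intro x
    apply Nat.cast_injective (R := ℂ)
    push_cast
    rw [Char.charDegree_cast, Char.charDegree_cast]
    exact Char.cliffordInduce_apply_one N θ x
  refine (Nat.card_congr ?_).symm
  refine Equiv.trans (Equiv.subtypeEquivRight (q := fun ψ : IrrCharacter (Char.inertia N θ.1) =>
    classInner (Char.resIncl N (Char.irr_le_inertia N θ) ψ.1) θ.1 ≠ 0 ∧ ¬ p ∣ charDegree ψ.1)
    fun ψ => by rw [hover', and_comm]) ?_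
  refine Equiv.trans (Equiv.subtypeSubtypeEquivSubtypeInter _ _).symm ?_
  refine Equiv.trans (e.subtypeEquiv (q := fun χ => ¬ p ∣ charDegree χ.1.1) fun x => ?_) ?_
  · show (¬ p ∣ charDegree x.1.1) ↔ ¬ p ∣ charDegree (e x).1.1
    rw [hdeg]
    refine ⟨fun h1 h2 => (hp.out.dvd_mul.1 h2).elim h h1, fun h1 h2 => h1 (dvd_mul_of_dvd_right h2 _)⟩
  refine Equiv.trans (Equiv.subtypeSubtypeEquivSubtypeInter
    (fun χ : IrrCharacter G => classInner (Char.resFun N χ.1) θ.1 ≠ 0)
    (fun χ => ¬ p ∣ charDegree χ.1)) ?_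
  exact Equiv.subtypeEquivRight fun χ => by rw [hover, and_comm]

end Inertia

section Cover

open Cfsg.Agent.IsaacsCorr

variable {E G : Type u} [Group E] [Finite E] [Group G] [Finite G] {d : ℕ} {π : E →* G}
  {σ : Representation ℂ E (Fin d → ℂ)} {M : Subgroup E} [M.Normal]

/-- The kernel of a covering in the quotient. -/
def kerHom (π : E →* G) (M : Subgroup E) [M.Normal] : π.ker →* E ⧸ M :=
  (QuotientGroup.mk' M).comp π.ker.subtype

@[simp] theorem kerHom_apply (z : π.ker) : kerHom π M z = ((z : E) : E ⧸ M) := rfl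

theorem kerHom_injective (hc : IsCover π σ M) : Function.Injective (kerHom π M) :=
  (injective_iff_map_eq_one _).2 fun z hz =>
    Subtype.ext (hc.inj _ ((QuotientGroup.eq_one_iff (z : E)).1 hz) z.2)

theorem kerHom_central (hc : IsCover π σ M) (z : π.ker) :
    kerHom π M z ∈ Subgroup.center (E ⧸ M) := by
  refine Subgroup.mem_center_iff.2 fun y => ?_
  obtain ⟨e, rfl⟩ := QuotientGroup.mk_surjective y
  rw [kerHom_apply, ← QuotientGroup.mk_mul, ← QuotientGroup.mk_mul, hc.kernel_central z.2]

/-- The linear character of the kernel inverse to `σ`. -/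
noncomputable def kerChar (hc : IsCover π σ M) : π.ker →* ℂ :=
  { toFun := fun z => (Classical.choose (hc.exists_scalar z.2))⁻¹
    map_one' := by
      haveI := hc.irr
      haveI := Char.nontrivial_of_isIrreducible (MonoidHom.comp σ M.subtype)
      have h := (Classical.choose_spec (hc.exists_scalar (1 : π.ker).2)).2
      have h1 := smul_left_injective ℂ (one_ne_zero : (1 : Module.End ℂ (Fin d → ℂ)) ≠ 0)
        (((one_smul ℂ (1 : Module.End ℂ (Fin d → ℂ))).trans (map_one σ).symm).trans h)
      exact inv_eq_one.2 h1.symm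
    map_mul' := fun a b => by
      haveI := hc.irr
      haveI := Char.nontrivial_of_isIrreducible (MonoidHom.comp σ M.subtype)
      have ha := (Classical.choose_spec (hc.exists_scalar a.2)).2
      have hb := (Classical.choose_spec (hc.exists_scalar b.2)).2
      have hab := (Classical.choose_spec (hc.exists_scalar (a * b).2)).2
      have e : σ ((a * b : π.ker) : E) = (Classical.choose (hc.exists_scalar a.2) *
          Classical.choose (hc.exists_scalar b.2)) • 1 := by
        rw [Subgroup.coe_mul, map_mul]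
        refine (congrArg₂ (· * ·) ha hb).trans ?_
        rw [smul_mul_assoc, one_mul, smul_smul]
      have h1 := smul_left_injective ℂ (one_ne_zero : (1 : Module.End ℂ (Fin d → ℂ)) ≠ 0)
        (hab.symm.trans e)
      exact (congrArg (·⁻¹) h1).trans (mul_inv _ _) }

theorem kerChar_spec (hc : IsCover π σ M) (z : π.ker) :
    (kerChar hc z)⁻¹ ≠ 0 ∧ σ (z : E) = (kerChar hc z)⁻¹ • 1 := by
  show (Classical.choose (hc.exists_scalar z.2))⁻¹⁻¹ ≠ 0 ∧
    σ (z : E) = (Classical.choose (hc.exists_scalar z.2))⁻¹⁻¹ • 1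
  rw [inv_inv]
  exact Classical.choose_spec (hc.exists_scalar z.2)

theorem genuine_iff (hc : IsCover π σ M) (β : IrrCharacter (E ⧸ M)) :
    Genuine π σ M β.1 ↔ Over (kerHom π M) (kerChar hc) β.1 := by
  rw [over_central_iff _ (kerHom_central hc)]
  haveI := hc.irr
  haveI := Char.nontrivial_of_isIrreducible (MonoidHom.comp σ M.subtype)
  constructor
  · intro h z y
    obtain ⟨hne, hz⟩ := kerChar_spec hc z
    have h1 := h z z.2 _ hz y
    rw [kerHom_apply, ← h1, ← mul_assoc, mul_inv_cancel₀ (by simpa using hne), one_mul]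
  · intro h z hz c hcz y
    obtain ⟨hne, hz'⟩ := kerChar_spec hc ⟨z, hz⟩
    have hcc : c = (kerChar hc ⟨z, hz⟩)⁻¹ :=
      smul_left_injective ℂ (one_ne_zero : (1 : Module.End ℂ (Fin d → ℂ)) ≠ 0) (hcz.symm.trans hz')
    have h1 := h ⟨z, hz⟩ y
    rw [kerHom_apply] at h1
    rw [h1, hcc, ← mul_assoc, inv_mul_cancel₀ (by simpa using hne), one_mul]

variable {L : Type v} [Group L] [Finite L]

/-- A covering turns the count over an invariant character into a count over a central linear
character. -/
theorem cnt_of_cover (hc : IsCover π σ M) (j : L →* G) (ν : L → ℂ) (e : M ≃* L)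
    (he : ∀ m, j (e m) = π m) (hν : ∀ m, ν (e m) = σ.character (m : E)) :
    cnt p j ν = if p ∣ d then 0 else cnt p (kerHom π M) (kerChar hc) := by
  classical
  letI : Fintype E := Fintype.ofFinite E
  letI : Fintype G := Fintype.ofFinite G
  haveI : Finite (E ⧸ M) := inferInstance
  letI : Fintype (E ⧸ M) := Fintype.ofFinite _
  have hover : ∀ χ : G → ℂ, Over j ν χ ↔
      classInner (fun m : M => χ (π m)) (fun m : M => σ.character (m : E)) ≠ 0 := fun χ => by
    rw [over_iff]
    refine Iff.of_eq (congrArg (· ≠ (0 : ℂ)) ?_)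
    simp only [classInner, Nat.card_congr e.toEquiv]
    congr 1
    refine Fintype.sum_equiv e.symm.toEquiv _ _ fun l => ?_
    show χ (j l) * conj (ν l) = χ (π (e.symm l)) * conj (σ.character (e.symm l : E))
    rw [← he, ← hν, MulEquiv.apply_symm_apply]
  have hdeg : ∀ (β : IrrCharacter (E ⧸ M)) (hβ : Genuine π σ M β.1),
      charDegree (hc.liftIrr β hβ).1 = d * charDegree β.1 := by
    intro β hβ
    apply Nat.cast_injective (R := ℂ)
    push_cast
    rw [Char.charDegree_cast, Char.charDegree_cast]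
    exact hc.lift_one hβ
  have hlift : ∀ (β : IrrCharacter (E ⧸ M)) (hβ : Genuine π σ M β.1),
      Over j ν (hc.liftIrr β hβ).1 := by
    intro β hβ
    refine (hover _).2 ?_
    show classInner (fun m : M => hc.lift β.1 (π m)) _ ≠ 0
    rw [hc.classInner_lift_M hβ]
    exact Char.IsIrrCharacter.apply_one_ne_zero β.2
  split_ifs with hd
  · refine Nat.card_eq_zero.2 (Or.inl ⟨fun x => ?_⟩)
    obtain ⟨β, hβ, hx⟩ := hc.exists_lift x.1 ((hover _).1 x.2.2)
    refine x.2.1 ?_
    rw [← hx, hdeg]
    exact dvd_mul_of_dvd_left hd _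
  · refine (Nat.card_congr (Equiv.ofBijective
      (fun β : {β : IrrCharacter (E ⧸ M) //
        ¬ p ∣ charDegree β.1 ∧ Over (kerHom π M) (kerChar hc) β.1} =>
        (⟨hc.liftIrr β.1 ((genuine_iff hc β.1).2 β.2.2), by
          rw [hdeg]
          exact ⟨fun h => (hp.out.dvd_mul.1 h).elim hd β.2.1, hlift _ _⟩⟩ :
          {χ : IrrCharacter G // ¬ p ∣ charDegree χ.1 ∧ Over j ν χ.1}))
      ⟨fun a b h => Subtype.ext (hc.lift_injective ((genuine_iff hc a.1).2 a.2.2)
        ((genuine_iff hc b.1).2 b.2.2) (congrArg (fun x => x.1.1) h)), fun χ => ?_⟩)).symm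
    · obtain ⟨β, hβ, hx⟩ := hc.exists_lift χ.1 ((hover _).1 χ.2.2)
      refine ⟨⟨β, fun h => χ.2.1 ?_, (genuine_iff hc β).1 hβ⟩, Subtype.ext hx⟩
      rw [← hx, hdeg]
      exact dvd_mul_of_dvd_right h _

end Cover

section Sylow

variable {G : Type u} [Group G] [Finite G] {K : Subgroup G} [K.Normal]

theorem mem_normalizer_of_normal (g : G) : g ∈ Subgroup.normalizer (K : Set G) := by
  rw [Subgroup.normalizer_eq_top]; trivial

/-- Two `S`-fixed conjugate characters are conjugate under the normaliser of `S`. -/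
theorem exists_conjBy_normalizer (S : Sylow p G) {θ η : IrrCharacter K}
    (hθ : ∀ s ∈ (S : Subgroup G), Fixes (extendByZero K θ.1) s)
    (hη : ∀ s ∈ (S : Subgroup G), Fixes (extendByZero K η.1) s) {g : G} (h : ConjBy g θ η) :
    ∃ n ∈ Subgroup.normalizer ((S : Subgroup G) : Set G), ConjBy n θ η := by
  set T := stab (extendByZero K θ.1)
  have hST : (S : Subgroup G) ≤ T := hθ
  have hgT : ∀ s ∈ (S : Subgroup G), g * s * g⁻¹ ∈ T := by
    intro s hs x
    have h1 := hη s hs (g⁻¹ * x * g)
    rw [h, h] at h1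
    refine Eq.trans ?_ (h1.trans ?_) <;> (congr 1; group)
  let Q : Sylow p T := S.subtype hST
  have hQ' : (MulAut.conj g • (S : Subgroup G) : Subgroup G) ≤ T := fun x hx => by
    rw [Coprime.mem_conj_smul_iff] at hx
    have := hgT _ hx
    simpa [mul_assoc] using this
  let Q' : Sylow p T := (g • S).subtype hQ'
  obtain ⟨t, ht⟩ := MulAction.exists_smul_eq T Q' Q
  have hkey : ∀ s ∈ (S : Subgroup G), (t : G) * g * s * ((t : G) * g)⁻¹ ∈ (S : Subgroup G) := by
    intro s hs
    have hmem : (⟨g * s * g⁻¹, hgT s hs⟩ : T) ∈ (Q' : Subgroup T) := by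
      show g * s * g⁻¹ ∈ MulAut.conj g • (S : Subgroup G)
      rw [Coprime.mem_conj_smul_iff]
      simpa [mul_assoc] using hs
    have h2 : (MulAut.conj t) (⟨g * s * g⁻¹, hgT s hs⟩ : T) ∈ ((t • Q' : Sylow p T) : Subgroup T) :=
      ⟨_, hmem, rfl⟩
    rw [ht] at h2
    have h3 : (t : G) * (g * s * g⁻¹) * (t : G)⁻¹ ∈ (S : Subgroup G) := h2
    simpa [mul_assoc] using h3
  refine ⟨(t : G) * g, ?_, ?_⟩
  · have hmap : (S : Subgroup G).map (MulAut.conj ((t : G) * g)).toMonoidHom = S :=
      Subgroup.eq_of_le_of_card_ge (by rintro _ ⟨y, hy, rfl⟩; exact hkey y hy)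
        (Subgroup.card_map_of_injective (MulAut.conj ((t : G) * g)).injective).ge
    refine Subgroup.mem_normalizer_iff.2 fun x => ⟨hkey x, fun hx => ?_⟩
    rw [← hmap] at hx
    obtain ⟨y, hy, he⟩ := hx
    exact (MulAut.conj ((t : G) * g)).injective he ▸ hy
  · have htθ : Fixes (extendByZero K θ.1) (t : G) := t.2
    exact ConjBy.trans (fun x => (htθ x).symm) h

/-- A character of degree prime to `p` has a constituent fixed by a given `p`-subgroup. -/
theorem exists_fixed_over {M S : Subgroup G} (hKM : K ≤ M) (hSM : S ≤ M) (hS : IsPGroup p S)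
    (χ : IrrCharacter M) (hd : ¬ p ∣ charDegree χ.1) :
    ∃ θ : IrrCharacter K, (∀ s ∈ S, Fixes (extendByZero K θ.1) s) ∧
      Over (Subgroup.inclusion hKM) θ.1 χ.1 := by
  classical
  have hMK : M ≤ Subgroup.normalizer (K : Set G) := fun g _ => mem_normalizer_of_normal g
  obtain ⟨θ, hθ⟩ := exists_over hKM hMK χ
  let A : Type u := {η : IrrCharacter K // Over (Subgroup.inclusion hKM) η.1 χ.1}
  letI : MulAction S A :=
    { smul := fun s η => ⟨conjIrr (mem_normalizer_of_normal (s : G)⁻¹) η.1,
        over_conjBy hKM hMK (M.inv_mem (hSM s.2)) ((conjBy_iff_conjIrr _ _ _).2 rfl) χ η.2⟩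
      one_smul := fun η => Subtype.ext (Subtype.ext (funext fun k => by
        show η.1.1 (conjK _ k) = η.1.1 k
        exact congrArg η.1.1 (Subtype.ext (by simp))))
      mul_smul := fun s t η => Subtype.ext (Subtype.ext (funext fun k => by
        show η.1.1 (conjK _ k) = η.1.1 (conjK _ (conjK _ k))
        exact congrArg η.1.1 (Subtype.ext (by simp [mul_assoc])))) }
  have hcard : Nat.card A = numConj M θ := Nat.card_congr (Equiv.subtypeEquivRight fun η =>
    ⟨fun h => exists_conjBy_of_over hKM hMK χ hθ h,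
      fun ⟨g, hg, hgη⟩ => over_conjBy hKM hMK hg hgη χ hθ⟩)
  obtain ⟨η, hη⟩ := hS.nonempty_fixed_point_of_prime_not_dvd_card A
    (by rw [hcard]; exact fun h => hd (h.trans (degree_dvd_of_over hKM hMK θ χ hθ).2))
  refine ⟨η.1, fun s hs => ?_, η.2⟩
  have h1 : conjIrr (mem_normalizer_of_normal s⁻¹) η.1 = η.1 := congrArg Subtype.val (hη ⟨s, hs⟩)
  have h2 := Fixes.inv ((fixes_iff_conjIrr (mem_normalizer_of_normal s⁻¹) η.1).2 h1)
  rwa [inv_inv] at h2

end Sylow

end Cfsg.Agent.RelMcKay
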