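import Cfsg.Agent.Lib.RelativeMcKay.Final
import Cfsg.Agent.Lib.RelativeMcKay.Reduce
import Cfsg.Agent.Lib.PCore.Extras

/-!
# The relative McKay theorem for `p`-solvable groups

`cnt_eq_normalizer`: for `L ⊴ G`, a Sylow `p`-subgroup `S` and an `S`-invariant `ν ∈ Irr L`, the
numbers of irreducible characters of degree prime to `p` over `ν` of `G` and of `N_G(L S)` agree.
-/

set_option autoImplicit false
set_option linter.style.haveILetI false
set_option linter.unusedSectionVars false

namespace Cfsg.Agent.RelMcKay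

open Cfsg
open scoped ComplexConjugate commutatorElement

attribute [local instance high] subgroupFintype
attribute [local instance 10] Fintype.ofFinite

universe u

variable {p : ℕ} [hp : Fact p.Prime]

/-- The statement at index less than `n`. -/
def McKayBelow (p n : ℕ) : Prop :=
  ∀ (G : Type u) [Group G] [Finite G], IsPSolvable p G → ∀ (L : Subgroup G) [L.Normal],
    L.index < n → ∀ (S : Sylow p G) (ν : IrrCharacter L),
      (∀ s ∈ (S : Subgroup G), Fixes (extendByZero L ν.1) s) →
        ∀ h : L ≤ Subgroup.normalizer ((L ⊔ S : Subgroup G) : Set G),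
          cnt p L.subtype ν.1 = cnt p (Subgroup.inclusion h) ν.1

variable {G : Type u} [Group G] [Finite G]

theorem cnt_top (L : Subgroup G) (ν : L → ℂ) {M : Subgroup G} (hM : M = ⊤) (h : L ≤ M) :
    cnt p L.subtype ν = cnt p (Subgroup.inclusion h) ν := by
  subst hM
  exact cnt_congr p Subgroup.topEquiv.symm (MulEquiv.refl L) (fun _ => rfl) (fun _ => rfl)

theorem relIndex_lt_index {L M : Subgroup G} (hLM : L ≤ M) (hM : M ≠ ⊤) :
    L.relIndex M < L.index := by
  rw [← Subgroup.relIndex_mul_index hLM]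
  refine lt_mul_of_one_lt_right (Nat.pos_of_ne_zero ?_) (Subgroup.one_lt_index_of_ne_top hM)
  exact Subgroup.index_ne_zero_of_finite (H := L.subgroupOf M)

/-- The induction hypothesis inside a proper subgroup. -/
theorem cnt_subgroup_eq {n : ℕ} (ih : McKayBelow.{u} p n) (hG : IsPSolvable p G) (M L : Subgroup G)
    [L.Normal] (hLM : L ≤ M) (S : Sylow p G) (hSM : (S : Subgroup G) ≤ M)
    (hidx : L.relIndex M < n) (ν : IrrCharacter L)
    (hν : ∀ s ∈ (S : Subgroup G), Fixes (extendByZero L ν.1) s)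
    (h : L ≤ M ⊓ Subgroup.normalizer ((L ⊔ S : Subgroup G) : Set G)) :
    cnt p (Subgroup.inclusion hLM) ν.1 = cnt p (Subgroup.inclusion h) ν.1 := by
  set L' := L.subgroupOf M
  haveI : L'.Normal := Subgroup.normal_subgroupOf
  let S' : Sylow p M := S.subtype hSM
  let ν' : IrrCharacter L' := Char.toSubgroupOf L hLM ν
  have hsup : L' ⊔ (S' : Subgroup M) = (L ⊔ (S : Subgroup G)).subgroupOf M := by
    rw [Subgroup.subgroupOf_sup hLM hSM]; rfl
  have hfix : ∀ s ∈ (S' : Subgroup M), Fixes (extendByZero L' ν'.1) s := by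
    intro s hs
    refine (fixes_ext0_iff (mem_normalizer_of_normal s) ν'.1).2 fun k => ?_
    exact (fixes_ext0_iff (mem_normalizer_of_normal (s : G)) ν.1).1 (hν s hs)
      ⟨_, Subgroup.mem_subgroupOf.1 k.2⟩
  have hN : Subgroup.normalizer ((L' ⊔ (S' : Subgroup M) : Subgroup M) : Set M) =
      (Subgroup.normalizer ((L ⊔ (S : Subgroup G) : Subgroup G) : Set G)).subgroupOf M := by
    rw [hsup, Subgroup.subgroupOf_normalizer_eq (sup_le hLM hSM)]
  have hL' : L' ≤ Subgroup.normalizer ((L' ⊔ (S' : Subgroup M) : Subgroup M) : Set M) := by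
    rw [hN]
    exact fun x hx => Subgroup.mem_subgroupOf.2 (h (Subgroup.mem_subgroupOf.1 hx)).2
  have key := ih M (PCore.isPSolvable_subgroup hG M) L' hidx S' ν' hfix hL'
  let eN : ↥(Subgroup.normalizer ((L' ⊔ (S' : Subgroup M) : Subgroup M) : Set M)) ≃*
      ↥(M ⊓ Subgroup.normalizer ((L ⊔ (S : Subgroup G) : Subgroup G) : Set G)) :=
    { toFun := fun x => ⟨((x : M) : G), (x : M).2, Subgroup.mem_subgroupOf.1 (hN.le x.2)⟩
      invFun := fun x => ⟨⟨(x : G), x.2.1⟩, by rw [hN]; exact Subgroup.mem_subgroupOf.2 x.2.2⟩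
      left_inv := fun x => rfl
      right_inv := fun x => rfl
      map_mul' := fun x y => rfl }
  calc cnt p (Subgroup.inclusion hLM) ν.1 = cnt p L'.subtype ν'.1 :=
        (cnt_congr p (MulEquiv.refl M) (Subgroup.subgroupOfEquivOfLe hLM) (fun _ => rfl)
          (fun _ => rfl)).symm
    _ = cnt p (Subgroup.inclusion hL') ν'.1 := key
    _ = _ := cnt_congr p eN (Subgroup.subgroupOfEquivOfLe hLM) (fun _ => rfl) (fun _ => rfl)

/-- The case of a central `L`. -/
theorem cnt_eq_of_central {n : ℕ} (ih : McKayBelow.{u} p n) (hG : IsPSolvable p G) (L : Subgroup G)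
    (hL : L ≤ Subgroup.center G) (hn : L.index = n) (S : Sylow p G) (ν : L →* ℂ)
    (hLN : L ≤ Subgroup.normalizer ((L ⊔ S : Subgroup G) : Set G)) :
    cnt p L.subtype ν = cnt p (Subgroup.inclusion hLN) ν := by
  classical
  haveI : L.Normal := ⟨fun x hx g => by
    rwa [Subgroup.mem_center_iff.1 (hL hx) g, mul_inv_cancel_right]⟩
  set N := Subgroup.normalizer ((L ⊔ S : Subgroup G) : Set G) with hN
  by_cases htop : L = ⊤
  · exact cnt_top L ν (top_le_iff.1 (htop ▸ hLN)) hLN
  haveI : Nontrivial (G ⧸ L) := by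
    obtain ⟨g, hg⟩ : ∃ g : G, g ∉ L := by
      by_contra! h
      exact htop ((Subgroup.eq_top_iff' _).2 h)
    exact ⟨⟨(g : G ⧸ L), 1, fun h => hg ((QuotientGroup.eq_one_iff g).1 h)⟩⟩
  have hQ : IsPSolvable p (G ⧸ L) := PCore.isPSolvable_quotient hG L
  let π := QuotientGroup.mk' L
  have hπ : Function.Surjective π := QuotientGroup.mk'_surjective L
  -- a chief step above `L`
  obtain ⟨Q, hQn, hQne, hQcase⟩ : ∃ Q : Subgroup (G ⧸ L), Q.Normal ∧ Q ≠ ⊥ ∧
      (IsPGroup p Q ∨ (Nat.card Q).Coprime p) := by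
    rcases PCore.pCore_ne_bot_or_pPrimeCore_ne_bot hQ with h | h
    · exact ⟨_, PCore.pCore_normal, h, Or.inl PCore.isPGroup_pCore⟩
    · exact ⟨_, PCore.pPrimeCore_normal, h, Or.inr PCore.coprime_card_pPrimeCore⟩
  haveI := hQn
  set K := Q.comap π with hK
  haveI : K.Normal := Subgroup.Normal.comap hQn π
  have hLK : L ≤ K := fun x hx => by
    show π x ∈ Q
    rw [show π x = 1 from (QuotientGroup.eq_one_iff x).2 hx]
    exact one_mem Q
  have hrel : L.relIndex K = Nat.card Q := by
    rw [hK]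
    exact PCore.relIndex_comap_mk' L Q
  have hKlt : K.index < n := by
    have h1 : 1 < L.relIndex K := by
      rw [hrel]
      exact (Subgroup.one_lt_card_iff_ne_bot Q).2 hQne
    rw [← hn, ← Subgroup.relIndex_mul_index hLK]
    exact lt_mul_left (Nat.pos_of_ne_zero Subgroup.index_ne_zero_of_finite) h1
  -- the characters of `K`
  set Θ : Finset (IrrCharacter K) := Finset.univ.filter fun θ =>
    ¬ p ∣ charDegree θ.1 ∧ (∀ s ∈ (S : Subgroup G), Fixes (extendByZero K θ.1) s) ∧
      Over (Subgroup.inclusion hLK) ν θ.1 with hΘ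
  have hD : ∀ (M : Subgroup G) (hKM : K ≤ M), (S : Subgroup G) ≤ M →
      (cnt p (Subgroup.inclusion (hLK.trans hKM)) ν : ℂ) =
        ∑ θ ∈ Θ, (cnt p (Subgroup.inclusion hKM) θ.1 : ℂ) /
          (Nat.card {η : IrrCharacter K // η ∈ Θ ∧ ∃ g ∈ M, ConjBy g θ η} : ℂ) := by
    intro M hKM hSM
    have hMK : M ≤ Subgroup.normalizer (K : Set G) := fun g _ => mem_normalizer_of_normal g
    refine cnt_eq_sum hLK hKM hMK hL ν p Θ (fun θ hθ => (Finset.mem_filter.1 hθ).2.2.2)
      fun χ hd hχ => ?_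
    obtain ⟨θ, hθS, hθχ⟩ := exists_fixed_over hKM hSM S.2 χ hd
    exact ⟨θ, Finset.mem_filter.2 ⟨Finset.mem_univ _,
      fun h => hd (h.trans (degree_dvd_of_over hKM hMK θ χ hθχ).1), hθS,
      (over_central_trans hLK hKM hL ν θ χ hθχ).1 hχ⟩, hθχ⟩
  -- the intermediate subgroup
  set HH := Subgroup.normalizer ((K ⊔ S : Subgroup G) : Set G) with hHH
  have hKH : K ≤ HH := fun x hx => Subgroup.le_normalizer (Subgroup.mem_sup_left hx)
  have hSH : (S : Subgroup G) ≤ HH := fun x hx =>
    Subgroup.le_normalizer (Subgroup.mem_sup_right hx)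
  have hNS : Subgroup.normalizer ((S : Subgroup G) : Set G) ≤ HH := fun g hg =>
    Subgroup.normalizer_inf_normalizer_le_normalizer_sup K _ ⟨mem_normalizer_of_normal g, hg⟩
  have hGH : cnt p L.subtype ν = cnt p (Subgroup.inclusion (hLK.trans hKH)) ν := by
    rw [cnt_top L ν rfl le_top]
    apply Nat.cast_injective (R := ℂ)
    rw [show Subgroup.inclusion (le_top : L ≤ ⊤) = Subgroup.inclusion (hLK.trans le_top) from rfl,
      hD ⊤ le_top le_top, hD HH hKH hSH]
    refine Finset.sum_congr rfl fun θ hθ => ?_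
    obtain ⟨-, hθS, -⟩ := (Finset.mem_filter.1 hθ).2
    congr 2
    · rw [← cnt_top K θ.1 rfl le_top]
      exact ih G hG K hKlt S θ hθS hKH
    · refine Nat.card_congr (Equiv.subtypeEquivRight fun η => and_congr_right fun hη => ?_)
      constructor
      · rintro ⟨g, -, hg⟩
        obtain ⟨m, hm, hm'⟩ :=
          exists_conjBy_normalizer S hθS (Finset.mem_filter.1 hη).2.2.1 hg
        exact ⟨m, hNS hm, hm'⟩
      · rintro ⟨g, -, hg⟩
        exact ⟨g, trivial, hg⟩
  have hNH : N ≤ HH := by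
    intro g hg
    have h1 : K ⊔ (S : Subgroup G) = K ⊔ (L ⊔ S) := by
      rw [← sup_assoc, sup_eq_left.2 hLK]
    rw [hHH, h1]
    exact Subgroup.normalizer_inf_normalizer_le_normalizer_sup K _ ⟨mem_normalizer_of_normal g, hg⟩
  rcases hQcase with hQp | hQp
  · -- a `p`-group step
    have hKP : K ≤ L ⊔ (S : Subgroup G) := by
      intro x hx
      have h1 : π x ∈ (S.mapSurjective hπ : Subgroup (G ⧸ L)) :=
        PCore.pCore_le_sylow _ (PCore.le_pCore hQp hx)
      rw [Sylow.coe_mapSurjective] at h1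
      obtain ⟨s, hs, he⟩ := h1
      have h2 : s⁻¹ * x ∈ L := QuotientGroup.eq.1 he
      have h3 : x = s * (s⁻¹ * x) := by group
      rw [h3]
      exact mul_mem (Subgroup.mem_sup_right hs) (Subgroup.mem_sup_left h2)
    have hPeq : K ⊔ (S : Subgroup G) = L ⊔ S :=
      le_antisymm (sup_le hKP le_sup_right) (sup_le_sup_right hLK _)
    have hHN : HH = N := by rw [hHH, hPeq]
    rw [hGH]
    exact cnt_congr p (MulEquiv.subgroupCongr hHN) (MulEquiv.refl L) (fun _ => rfl) (fun _ => rfl)
  · -- a `p'`-group step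
    by_cases hHtop : HH = ⊤
    · refine cnt_eq_of_normal_sup L K hL hLK ?_ S (Subgroup.normalizer_eq_top_iff.1 hHtop) ν hLN
      rw [hrel]
      exact (hp.out.coprime_iff_not_dvd).1 hQp.symm
    · rw [hGH]
      have hLH : L ≤ HH := hLK.trans hKH
      have h2 : cnt p (Subgroup.inclusion hLH) ν =
          cnt p (Subgroup.inclusion (le_inf hLH hLN)) ν :=
        cnt_subgroup_eq ih hG HH L hLH S hSH (hn ▸ relIndex_lt_index hLH hHtop) (Char.linIrr ν)
          (fun s _ => (fixes_ext0_iff (mem_normalizer_of_normal s) (Char.linIrr ν).1).2 fun k => by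
            refine congrArg ν (Subtype.ext ?_)
            rw [coe_conjK, Subgroup.mem_center_iff.1 (hL k.2) s, mul_inv_cancel_right])
          (le_inf hLH hLN)
      refine h2.trans ?_
      exact cnt_congr p (MulEquiv.subgroupCongr (inf_eq_right.2 hNH)) (MulEquiv.refl L)
        (fun _ => rfl) (fun _ => rfl)

open Cfsg.Agent.IsaacsCorr in
/-- The case of an invariant `ν`, through a covering. -/
theorem cnt_eq_of_invariant {n : ℕ} (ih : McKayBelow.{u} p n) (hG : IsPSolvable p G)
    (L : Subgroup G) [L.Normal] (hn : L.index = n) (S : Sylow p G) (ν : IrrCharacter L)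
    (hinv : ∀ g : G, Char.conjFun L ν.1 g = ν.1)
    (hLN : L ≤ Subgroup.normalizer ((L ⊔ S : Subgroup G) : Set G)) :
    cnt p L.subtype ν.1 = cnt p (Subgroup.inclusion hLN) ν.1 := by
  classical
  letI : Fintype G := Fintype.ofFinite G
  set N := Subgroup.normalizer ((L ⊔ S : Subgroup G) : Set G) with hN
  obtain ⟨c⟩ := exists_opCover (1 : PUnit.{1} →* MulAut G) L (fun _ x hx => hx) ν hinv
    (fun _ l => congrArg ν.1 (Subtype.ext rfl))
  -- the subgroup over `N`
  let EN : Subgroup c.E := N.comap c.π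
  have hMEN : c.M ≤ EN := fun m hm => hLN (c.map_mem m hm)
  let πN : EN →* N := (c.π.comp EN.subtype).codRestrict N fun x => x.2
  let MN : Subgroup EN := c.M.subgroupOf EN
  haveI : MN.Normal := Subgroup.normal_subgroupOf
  let eM : MN ≃* c.M := Subgroup.subgroupOfEquivOfLe hMEN
  have hcN : IsCover (d := c.d) πN (MonoidHom.comp c.σ EN.subtype) MN := by
    refine ⟨fun g => ?_, fun m hm h => ?_, ?_, fun z h1 h2 => ?_⟩
    · obtain ⟨e, he⟩ := c.cover.surj g
      exact ⟨⟨e, show c.π e ∈ N by rw [he]; exact g.2⟩, Subtype.ext he⟩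
    · exact Subtype.ext (c.cover.inj _ (Subgroup.mem_subgroupOf.1 hm) (congrArg Subtype.val h))
    · letI : Fintype c.M := Fintype.ofFinite _
      letI : Fintype MN := Fintype.ofFinite _
      refine Char.isIrreducible_of_classInner_eq_one _ ?_
      have h := Char.IsIrrCharacter.comp_surjective c.cover.isIrr_sigma eM.toMonoidHom eM.surjective
      exact Char.classInner_irr_self h
    · exact Subtype.ext (c.cover.faithful _ (congrArg Subtype.val h1) h2)
  have eG := cnt_of_cover (p := p) c.cover L.subtype ν.1 c.equivM (fun m => rfl)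
    (fun m => (c.character_M m m.2).symm)
  have eN := cnt_of_cover (p := p) hcN (Subgroup.inclusion hLN) ν.1 (eM.trans c.equivM)
    (fun m => Subtype.ext rfl) (fun m => (c.character_M (eM m) (eM m).2).symm)
  rw [eG, eN]
  by_cases hd : p ∣ c.d
  · rw [if_pos hd, if_pos hd]
  rw [if_neg hd, if_neg hd]
  -- the central subgroup
  let Z : Subgroup (c.E ⧸ c.M) := (kerHom c.π c.M).range
  let eZ : c.π.ker ≃* Z := MonoidHom.ofInjective (kerHom_injective c.cover)
  have heZ : ∀ z, ((eZ z : Z) : c.E ⧸ c.M) = kerHom c.π c.M z := fun z => rfl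
  let ζ : Z →* ℂ := (kerChar c.cover).comp eZ.symm.toMonoidHom
  have hζ : ∀ z, ζ (eZ z) = kerChar c.cover z := fun z =>
    congrArg (kerChar c.cover) (eZ.symm_apply_apply z)
  have hZc : Z ≤ Subgroup.center (c.E ⧸ c.M) := by
    rintro _ ⟨z, rfl⟩
    exact kerHom_central c.cover z
  have hEps : IsPSolvable p (c.E ⧸ c.M) := by
    refine PCore.isPSolvable_quotient ?_ c.M
    haveI : Group.IsSolvable c.π.ker := Group.isSolvable_of_comm fun a b =>
      Subtype.ext (c.cover.kernel_central b.2 (a : c.E))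
    exact PCore.isPSolvable_of_normal c.π.ker PCore.isPSolvable_of_isSolvable
      ((PCore.isPSolvable_congr (QuotientGroup.quotientKerEquivOfSurjective c.π c.cover.surj).symm).1
        hG)
  set mkM := QuotientGroup.mk' c.M
  have hmk : Function.Surjective mkM := QuotientGroup.mk'_surjective _
  have hZmap : Z = c.π.ker.map mkM := by
    show ((QuotientGroup.mk' c.M).comp c.π.ker.subtype).range = _
    rw [MonoidHom.range_comp, Subgroup.range_subtype]
  have hMker : c.M.map c.π = L := le_antisymm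
    (by rintro _ ⟨m, hm, rfl⟩; exact c.map_mem m hm)
    (fun l hl => by obtain ⟨m, hm, he⟩ := c.exists_mem l hl; exact ⟨m, hm, he⟩)
  have hcomapL : L.comap c.π = c.M ⊔ c.π.ker :=
    (congrArg (Subgroup.comap c.π) hMker.symm).trans (Subgroup.comap_map_eq _ _)
  have hidx : Z.index = n := by
    rw [← hn, ← L.index_comap_of_surjective c.cover.surj, hcomapL, hZmap,
      ← Subgroup.index_comap_of_surjective (H := c.π.ker.map mkM) hmk, Subgroup.comap_map_eq,
      QuotientGroup.ker_mk', sup_comm]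
  obtain ⟨SE, hSE⟩ := Sylow.mapSurjective_surjective c.cover.surj p S
  have hSE' : (SE : Subgroup c.E).map c.π = S := by
    rw [← hSE, Sylow.coe_mapSurjective]
  let ST : Sylow p (c.E ⧸ c.M) := SE.mapSurjective hmk
  have hP : (c.M ⊔ SE).map c.π = L ⊔ S := by rw [Subgroup.map_sup, hSE', hMker]
  set NT := Subgroup.normalizer ((Z ⊔ ST : Subgroup (c.E ⧸ c.M)) : Set (c.E ⧸ c.M)) with hNT
  have hcomapNT : NT.comap mkM = EN := by
    show NT.comap mkM = N.comap c.π
    rw [hNT, hN, Subgroup.comap_normalizer_eq_of_surjective _ hmk,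
      Subgroup.comap_normalizer_eq_of_surjective _ c.cover.surj]
    congr 2
    rw [hZmap, Sylow.coe_mapSurjective, ← Subgroup.map_sup, Subgroup.comap_map_eq,
      QuotientGroup.ker_mk', ← hP, Subgroup.comap_map_eq]
    ac_rfl
  have hZNT : Z ≤ NT := fun z hz => Subgroup.le_normalizer (Subgroup.mem_sup_left hz)
  have hT := cnt_eq_of_central ih hEps Z hZc hidx ST ζ hZNT
  have e1 : cnt p (kerHom c.π c.M) (kerChar c.cover) = cnt p Z.subtype ζ :=
    cnt_congr p (MulEquiv.refl _) eZ (fun z => rfl) hζ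
  rw [e1, hT]
  -- the two quotients over `N`
  let f : EN →* NT := (mkM.comp EN.subtype).codRestrict NT fun x => by
    have h1 : (x : c.E) ∈ NT.comap mkM := hcomapNT.symm ▸ x.2
    exact h1
  have hf : Function.Surjective f := by
    rintro ⟨q, hq⟩
    obtain ⟨e, rfl⟩ := hmk q
    have he : e ∈ EN := hcomapNT ▸ (show e ∈ NT.comap mkM from hq)
    exact ⟨⟨e, he⟩, Subtype.ext rfl⟩
  have hker : f.ker = MN := by
    ext x
    rw [MonoidHom.mem_ker, Subgroup.mem_subgroupOf, Subtype.ext_iff]
    exact QuotientGroup.eq_one_iff (x : c.E)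
  let eQ : EN ⧸ MN ≃* NT :=
    (QuotientGroup.quotientMulEquivOfEq hker.symm).trans
      (QuotientGroup.quotientKerEquivOfSurjective f hf)
  have hkerEN : ∀ z : c.π.ker, (z : c.E) ∈ EN := fun z => by
    show c.π z ∈ N
    rw [show c.π z = 1 from z.2]
    exact one_mem N
  let eK : c.π.ker ≃* πN.ker :=
    { toFun := fun z => ⟨⟨z, hkerEN z⟩, Subtype.ext z.2⟩
      invFun := fun z => ⟨((z : EN) : c.E), congrArg Subtype.val (MonoidHom.mem_ker.1 z.2)⟩
      left_inv := fun z => rfl
      right_inv := fun z => rfl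
      map_mul' := fun a b => rfl }
  refine (cnt_congr p eQ (eK.symm.trans eZ) (fun z => ?_) fun z => ?_).symm
  · exact Subtype.ext rfl
  · refine (hζ (eK.symm z)).trans ?_
    haveI := hcN.irr
    haveI := Char.nontrivial_of_isIrreducible
      (MonoidHom.comp (MonoidHom.comp c.σ EN.subtype) MN.subtype)
    obtain ⟨h1, h2⟩ := kerChar_spec c.cover (eK.symm z)
    obtain ⟨h3, h4⟩ := kerChar_spec hcN z
    exact inv_injective (smul_left_injective ℂ
      (one_ne_zero : (1 : Module.End ℂ (Fin c.d → ℂ)) ≠ 0) (h2.symm.trans h4))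

/-- Relative McKay for `p`-solvable groups. -/
theorem cnt_eq_normalizer (hG : IsPSolvable p G) (L : Subgroup G) [L.Normal] (S : Sylow p G)
    (ν : IrrCharacter L) (hν : ∀ s ∈ (S : Subgroup G), Fixes (extendByZero L ν.1) s)
    (hLN : L ≤ Subgroup.normalizer ((L ⊔ S : Subgroup G) : Set G)) :
    cnt p L.subtype ν.1 = cnt p (Subgroup.inclusion hLN) ν.1 := by
  suffices h : ∀ n, McKayBelow.{u} p n from h (L.index + 1) G hG L (Nat.lt_succ_self _) S ν hν hLN
  intro n
  induction n with
  | zero => intro G _ _ _ L _ h; exact absurd h (Nat.not_lt_zero _)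
  | succ n ih =>
  intro G _ _ hG L _ hidx S ν hν hLN
  rcases Nat.lt_succ_iff_lt_or_eq.1 hidx with h | hn
  · exact ih G hG L h S ν hν hLN
  classical
  set I := Char.inertia L ν.1 with hI
  have hfix : ∀ g : G, Char.conjFun L ν.1 g = ν.1 ↔ Fixes (extendByZero L ν.1) g := fun g => by
    rw [fixes_ext0_iff (mem_normalizer_of_normal g)]
    constructor
    · intro h k
      rw [← congrFun h k]
      exact congrArg ν.1 (Subtype.ext (by simp))
    · intro h
      funext k
      rw [← h k]
      exact congrArg ν.1 (Subtype.ext (by simp))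
  by_cases htop : I = ⊤
  · exact cnt_eq_of_invariant ih hG L hn S ν (fun g => (htop ▸ Subgroup.mem_top g : g ∈ I)) hLN
  have hSI : (S : Subgroup G) ≤ I := fun s hs => (Char.mem_inertia L).2 ((hfix s).2 (hν s hs))
  have hLI : L ≤ I := Char.irr_le_inertia L ν
  set N := Subgroup.normalizer ((L ⊔ S : Subgroup G) : Set G) with hN
  have hSN : (S : Subgroup G) ≤ N := fun s hs => Subgroup.le_normalizer (Subgroup.mem_sup_right hs)
  have hpI : ¬ p ∣ I.index := fun h =>
    S.not_dvd_index ((Subgroup.relIndex_mul_index hSI) ▸ dvd_mul_of_dvd_right h _)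
  rw [cnt_inertia L ν hpI, cnt_subgroup_eq ih hG I L hLI S hSI (hn ▸ relIndex_lt_index hLI htop) ν hν
    (le_inf hLI hLN)]
  -- the inertia group inside `N`
  set L' := L.subgroupOf N
  haveI : L'.Normal := Subgroup.normal_subgroupOf
  let ν' := Char.toSubgroupOf L hLN ν
  have hI' : Char.inertia L' ν'.1 = I.subgroupOf N := by
    ext g
    rw [Char.mem_inertia, Subgroup.mem_subgroupOf, hI, Char.mem_inertia]
    exact Char.conjFun_toSubgroupOf_iff L hLN ν g
  have hpI' : ¬ p ∣ (Char.inertia L' ν'.1).index := by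
    rw [hI']
    intro h
    have h1 : (I ⊓ N).relIndex N ∣ (S : Subgroup G).relIndex N := by
      rw [← Subgroup.relIndex_mul_relIndex _ _ _ (le_inf hSI hSN) inf_le_right]
      exact dvd_mul_left _ _
    rw [Subgroup.inf_relIndex_right] at h1
    refine S.not_dvd_index ((Subgroup.relIndex_mul_index hSN) ▸ dvd_mul_of_dvd_left (h.trans h1) _)
  have hL'I : L' ≤ I.subgroupOf N := fun x hx =>
    Subgroup.mem_subgroupOf.2 (hLI (Subgroup.mem_subgroupOf.1 hx))
  let eI : ↥(Char.inertia L' ν'.1) ≃* ↥(I ⊓ N) :=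
    { toFun := fun x => ⟨((x : N) : G), Subgroup.mem_subgroupOf.1 (hI'.le x.2), (x : N).2⟩
      invFun := fun x => ⟨⟨(x : G), x.2.2⟩, by rw [hI']; exact Subgroup.mem_subgroupOf.2 x.2.1⟩
      left_inv := fun x => rfl
      right_inv := fun x => rfl
      map_mul' := fun x y => rfl }
  calc cnt p (Subgroup.inclusion (le_inf hLI hLN)) ν.1 =
        cnt p (Subgroup.inclusion (Char.irr_le_inertia L' ν')) ν'.1 :=
        (cnt_congr p eI (Subgroup.subgroupOfEquivOfLe hLN) (fun _ => rfl) (fun _ => rfl)).symm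
    _ = cnt p L'.subtype ν'.1 := (cnt_inertia L' ν' hpI').symm
    _ = _ := cnt_congr p (MulEquiv.refl N) (Subgroup.subgroupOfEquivOfLe hLN) (fun _ => rfl)
      (fun _ => rfl)

end Cfsg.Agent.RelMcKay
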