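import Cfsg.Agent.Lib.Char.Gallagher
import Cfsg.Agent.Lib.Char.NormalAction
import Cfsg.Agent.Lib.FullyRam.Basic
import Cfsg.Agent.Lib.Coprime.Basic

/-!
# Commutator sums of a character over a pair of cosets

For `K ≤ G`, `θ ∈ Irr K` and `a, b` normalising `K` with `⁅a, b⁆ ∈ K`, the normalised sum `omega`
of `conj θ` over the commutators `⁅a k, b l⁆` is zero unless `a` and `b` fix `θ`; if they do and
`χ` extends `θ` to `K⟨a⟩`, then it is the scalar by which `b` multiplies `χ` on the coset `aK`.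
-/

set_option autoImplicit false
set_option linter.style.haveILetI false
set_option linter.unusedSectionVars false

namespace Cfsg.Agent.RelMcKay

open Cfsg Representation
open scoped ComplexConjugate commutatorElement

universe u

variable {G : Type u} [Group G]

/-- The function is invariant under conjugation by `g`. -/
def Fixes (f : G → ℂ) (g : G) : Prop := ∀ x : G, f (g * x * g⁻¹) = f x

theorem fixes_one (f : G → ℂ) : Fixes f 1 := fun x => by simp

theorem Fixes.mul {f : G → ℂ} {g h : G} (hg : Fixes f g) (hh : Fixes f h) : Fixes f (g * h) :=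
  fun x => by
    rw [show g * h * x * (g * h)⁻¹ = g * (h * x * h⁻¹) * g⁻¹ by group, hg, hh]

theorem Fixes.inv {f : G → ℂ} {g : G} (hg : Fixes f g) : Fixes f g⁻¹ := fun x => by
  conv_rhs => rw [← show g * (g⁻¹ * x * g⁻¹⁻¹) * g⁻¹ = x by group, hg]

/-- The subgroup of elements fixing `f`. -/
def stab (f : G → ℂ) : Subgroup G where
  carrier := {g | Fixes f g}
  one_mem' := fixes_one f
  mul_mem' := Fixes.mul
  inv_mem' := Fixes.inv

theorem mem_stab {f : G → ℂ} {g : G} : g ∈ stab f ↔ Fixes f g := Iff.rfl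

section Conj

variable {K : Subgroup G}

/-- Conjugation by an element of the normaliser. -/
def conjK {g : G} (hg : g ∈ Subgroup.normalizer (K : Set G)) : MulAut K where
  toFun k := ⟨g * k * g⁻¹, (Subgroup.mem_normalizer_iff.1 hg k).1 k.2⟩
  invFun k := ⟨g⁻¹ * k * g, (Subgroup.mem_normalizer_iff.1 hg _).2 (by
    rw [show g * (g⁻¹ * (k : G) * g) * g⁻¹ = k by group]; exact k.2)⟩
  left_inv k := Subtype.ext (by simp [mul_assoc])
  right_inv k := Subtype.ext (by simp [mul_assoc])
  map_mul' a b := Subtype.ext (by simp [mul_assoc])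

@[simp] theorem coe_conjK {g : G} (hg : g ∈ Subgroup.normalizer (K : Set G)) (k : K) :
    ((conjK hg k : K) : G) = g * k * g⁻¹ := rfl

theorem conj_mem_iff {g : G} (hg : g ∈ Subgroup.normalizer (K : Set G)) (x : G) :
    g * x * g⁻¹ ∈ K ↔ x ∈ K := (Subgroup.mem_normalizer_iff.1 hg x).symm

theorem ext0_coe (θ : K → ℂ) (k : K) : extendByZero K θ k = θ k :=
  Char.extendByZero_coe K θ k

theorem fixes_ext0_iff {g : G} (hg : g ∈ Subgroup.normalizer (K : Set G)) (θ : K → ℂ) :
    Fixes (extendByZero K θ) g ↔ ∀ k : K, θ (conjK hg k) = θ k := by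
  constructor
  · intro h k
    have := h (k : G)
    rw [ext0_coe, ← coe_conjK hg k, ext0_coe] at this
    exact this
  · intro h x
    by_cases hx : x ∈ K
    · lift x to K using hx
      rw [← coe_conjK hg x, ext0_coe, ext0_coe, h]
    · rw [Char.extendByZero_of_notMem K θ hx,
        Char.extendByZero_of_notMem K θ fun h' => hx ((conj_mem_iff hg x).1 h')]

theorem fixes_of_mem (θ : IrrCharacter K) {g : G} (hg : g ∈ K) : Fixes (extendByZero K θ.1) g :=
  (fixes_ext0_iff (Subgroup.le_normalizer hg) θ.1).2 fun k => by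
    have h : conjK (Subgroup.le_normalizer hg) k = (⟨g, hg⟩ : K) * k * ⟨g, hg⟩⁻¹ :=
      Subtype.ext (by simp)
    rw [h]
    exact Char.IsCharacter.isClassFunction (Char.irr_isCharacter θ) k ⟨g, hg⟩

/-- The conjugate of an irreducible character of `K`. -/
def conjIrr {g : G} (hg : g ∈ Subgroup.normalizer (K : Set G)) (θ : IrrCharacter K) :
    IrrCharacter K :=
  ⟨fun k => θ.1 (conjK hg k),
    Char.IsIrrCharacter.comp_surjective θ.2 (conjK hg).toMonoidHom (conjK hg).surjective⟩

@[simp] theorem conjIrr_apply {g : G} (hg : g ∈ Subgroup.normalizer (K : Set G))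
    (θ : IrrCharacter K) (k : K) : (conjIrr hg θ).1 k = θ.1 (conjK hg k) := rfl

theorem fixes_iff_conjIrr {g : G} (hg : g ∈ Subgroup.normalizer (K : Set G)) (θ : IrrCharacter K) :
    Fixes (extendByZero K θ.1) g ↔ conjIrr hg θ = θ := by
  rw [fixes_ext0_iff hg]
  exact ⟨fun h => Subtype.ext (funext h), fun h k => congrFun (congrArg Subtype.val h) k⟩

theorem ext0_inv [Finite G] (θ : IrrCharacter K) (x : G) :
    extendByZero K θ.1 x⁻¹ = conj (extendByZero K θ.1 x) := by
  by_cases hx : x ∈ K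
  · lift x to K using hx
    rw [← Subgroup.coe_inv, ext0_coe, ext0_coe,
      Char.IsCharacter.conj_apply (Char.irr_isCharacter θ)]
  · rw [Char.extendByZero_of_notMem K _ hx,
      Char.extendByZero_of_notMem K _ (fun h => hx (inv_mem_iff.1 h)), map_zero]

theorem mul_mem_normalizer {a : G} (ha : a ∈ Subgroup.normalizer (K : Set G)) (k : K) :
    a * k ∈ Subgroup.normalizer (K : Set G) :=
  mul_mem ha (Subgroup.le_normalizer k.2)

theorem commutator_mul_mem {a b : G} (ha : a ∈ Subgroup.normalizer (K : Set G))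
    (hb : b ∈ Subgroup.normalizer (K : Set G)) (hab : ⁅a, b⁆ ∈ K) (k l : K) :
    ⁅a * k, b * l⁆ ∈ K := by
  set M := Subgroup.normalizer (K : Set G) with hM
  let π : M →* M ⧸ K.subgroupOf M := QuotientGroup.mk' _
  have hk : π ⟨k, Subgroup.le_normalizer k.2⟩ = 1 :=
    (QuotientGroup.eq_one_iff _).2 (Subgroup.mem_subgroupOf.2 k.2)
  have hl : π ⟨l, Subgroup.le_normalizer l.2⟩ = 1 :=
    (QuotientGroup.eq_one_iff _).2 (Subgroup.mem_subgroupOf.2 l.2)
  have h : π ⁅(⟨a, ha⟩ : M) * ⟨k, Subgroup.le_normalizer k.2⟩,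
      (⟨b, hb⟩ : M) * ⟨l, Subgroup.le_normalizer l.2⟩⁆ = 1 := by
    rw [map_commutatorElement, map_mul, map_mul, hk, hl, mul_one, mul_one,
      ← map_commutatorElement]
    exact (QuotientGroup.eq_one_iff _).2 (Subgroup.mem_subgroupOf.2 hab)
  exact Subgroup.mem_subgroupOf.1 ((QuotientGroup.eq_one_iff _).1 h)

end Conj

/-- The sum of `conj f` over the commutators of the cosets `aK`, `bK`. -/
noncomputable def pairSum (K : Subgroup G) (f : G → ℂ) (a b : G) : ℂ :=
  ∑ᶠ k : K, ∑ᶠ l : K, conj (f ⁅a * k, b * l⁆)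

/-- The normalised commutator sum. -/
noncomputable def omega (K : Subgroup G) (θ : IrrCharacter K) (a b : G) : ℂ :=
  θ.1 1 / (Nat.card K : ℂ) ^ 2 * pairSum K (extendByZero K θ.1) a b

variable [Finite G] {K : Subgroup G} [Fintype K] {a b : G}

theorem pairSum_eq (f : G → ℂ) :
    pairSum K f a b = ∑ k : K, ∑ l : K, conj (f ⁅a * k, b * l⁆) := by
  simp only [pairSum, finsum_eq_sum_of_fintype]

theorem omega_swap (θ : IrrCharacter K) (a b : G) : omega K θ b a = conj (omega K θ a b) := by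
  obtain ⟨n, hn⟩ := Char.IsCharacter.apply_one (Char.irr_isCharacter θ)
  simp only [omega, map_mul, map_div₀, map_pow, hn, Complex.conj_natCast, pairSum_eq, map_sum,
    Complex.conj_conj]
  rw [Finset.sum_comm]
  congr 1
  refine Finset.sum_congr rfl fun k _ => Finset.sum_congr rfl fun l _ => ?_
  rw [← commutatorElement_inv, ext0_inv, Complex.conj_conj]

/-- The move `(a, b) ↦ (a, b a)`. -/
theorem omega_mul_self (θ : IrrCharacter K) (ha : a ∈ Subgroup.normalizer (K : Set G)) :
    omega K θ a (b * a) = omega K θ a b := by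
  simp only [omega, pairSum_eq]
  congr 1
  refine Finset.sum_congr rfl fun k _ => ?_
  refine Fintype.sum_equiv ((Equiv.mulRight k⁻¹).trans (conjK ha).toEquiv) _ _ fun l => ?_
  congr 2
  show ⁅a * (k : G), b * a * (l : G)⁆ =
    ⁅a * (k : G), b * (a * ((l * k⁻¹ : K) : G) * a⁻¹)⁆
  rw [Subgroup.coe_mul, Subgroup.coe_inv, commutatorElement_def, commutatorElement_def]
  group

theorem omega_mul_self_pow (θ : IrrCharacter K) (ha : a ∈ Subgroup.normalizer (K : Set G)) (n : ℕ) :
    omega K θ a (b * a ^ n) = omega K θ a b := by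
  induction n with
  | zero => rw [pow_zero, mul_one]
  | succ n ih => rw [pow_succ, ← mul_assoc, omega_mul_self θ ha, ih]

/-- An element not fixing `θ` annihilates the inner sum. -/
theorem sum_commutator_eq_zero (θ : IrrCharacter K) {g : G}
    (hg : g ∈ Subgroup.normalizer (K : Set G)) (hb : b ∈ Subgroup.normalizer (K : Set G))
    (hgb : ⁅g, b⁆ ∈ K) (hne : ¬ Fixes (extendByZero K θ.1) g) :
    ∑ l : K, extendByZero K θ.1 ⁅g, b * l⁆ = 0 := by
  obtain ⟨n, ρ, hρ, hρχ⟩ := (conjIrr hb θ).2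
  haveI := hρ
  let ρ2 : Representation ℂ K (Fin n → ℂ) := MonoidHom.comp ρ (conjK hg).toMonoidHom
  have hc : b⁻¹ * g * b * g⁻¹ ∈ K := by
    rw [show b⁻¹ * g * b * g⁻¹ = b⁻¹ * ⁅g, b⁆ * b⁻¹⁻¹ by rw [commutatorElement_def]; group]
    exact (conj_mem_iff (inv_mem hb) _).2 hgb
  let T : Module.End ℂ (Fin n → ℂ) := ∑ l : K, ρ2 l * ρ l⁻¹
  have hcomm : ∀ x : K, T * ρ x = ρ2 x * T := fun x => by
    simp only [T, Finset.sum_mul, Finset.mul_sum]
    refine Fintype.sum_equiv (Equiv.mulLeft x⁻¹) _ _ fun l => ?_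
    simp only [Equiv.coe_mulLeft]
    rw [mul_assoc, ← map_mul ρ, ← mul_assoc, ← map_mul ρ2, mul_inv_cancel_left, mul_inv_rev,
      inv_inv]
  let φ : IntertwiningMap ρ ρ2 :=
    { toLinearMap := T
      isIntertwining' := hcomm }
  have hT : T = 0 := by
    by_contra hT
    refine hne ?_
    have h2 : IsIrrCharacter K ρ2.character :=
      Char.IsIrrCharacter.comp_surjective (χ := ρ.character) ⟨n, ρ, hρ, rfl⟩
        (conjK hg).toMonoidHom (conjK hg).surjective
    have heq : ρ2.character = ρ.character := by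
      by_contra hne2
      have h0 := Char.classInner_irr_of_ne h2 ⟨n, ρ, hρ, rfl⟩ hne2
      rw [Char.classInner_character, Nat.cast_eq_zero, Module.finrank_zero_iff] at h0
      exact hT (congrArg IntertwiningMap.toLinearMap (Subsingleton.elim φ 0))
    refine (fixes_ext0_iff hg θ.1).2 fun k => ?_
    -- `g` and `b g b⁻¹` differ by an element of `K`
    have hgb' : ⁅b, g⁆ ∈ K := by rw [← commutatorElement_inv]; exact inv_mem hgb
    set x := (conjK hb).symm k with hx
    have hk : k = conjK hb x := ((conjK hb).apply_symm_apply k).symm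
    have h3 : ρ.character (conjK hg x) = ρ.character x := congrFun heq x
    rw [congrFun hρχ, congrFun hρχ, conjIrr_apply, conjIrr_apply, ← hk] at h3
    rw [← h3]
    have h4 : conjK hb (conjK hg x) = (⟨_, hgb'⟩ : K) * conjK hg k * (⟨_, hgb'⟩ : K)⁻¹ := by
      refine Subtype.ext ?_
      rw [hk]
      simp only [Subgroup.coe_mul, Subgroup.coe_inv, coe_conjK, commutatorElement_def]
      group
    rw [h4]
    exact (Char.IsCharacter.isClassFunction (Char.irr_isCharacter θ) (conjK hg k) ⟨_, hgb'⟩).symm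
  have hterm : ∀ l : K, extendByZero K θ.1 ⁅g, b * l⁆ =
      LinearMap.trace ℂ _ (ρ ⟨_, hc⟩ * (ρ2 l * ρ l⁻¹)) := fun l => by
    have e : ⁅g, b * (l : G)⁆ =
        ((conjK hb ((⟨_, hc⟩ : K) * (conjK hg l * l⁻¹)) : K) : G) := by
      simp only [coe_conjK, Subgroup.coe_mul, Subgroup.coe_inv, commutatorElement_def]
      group
    rw [e, ext0_coe, ← conjIrr_apply, ← congrFun hρχ]
    show LinearMap.trace ℂ _ (ρ _) = _
    rw [map_mul ρ, map_mul ρ]
    rfl
  rw [Finset.sum_congr rfl fun l _ => hterm l, ← map_sum, ← Finset.mul_sum, show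
    ∑ l : K, ρ2 l * ρ l⁻¹ = T from rfl, hT, mul_zero, map_zero]

theorem omega_eq_zero_left (θ : IrrCharacter K) (ha : a ∈ Subgroup.normalizer (K : Set G))
    (hb : b ∈ Subgroup.normalizer (K : Set G)) (hab : ⁅a, b⁆ ∈ K)
    (hne : ¬ Fixes (extendByZero K θ.1) a) : omega K θ a b = 0 := by
  rw [omega, pairSum_eq, Finset.sum_eq_zero, mul_zero]
  intro k _
  rw [← map_sum, sum_commutator_eq_zero θ (mul_mem_normalizer ha k) hb ?_ ?_, map_zero]
  · simpa using commutator_mul_mem ha hb hab k 1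
  · intro h
    refine hne ?_
    simpa using h.mul (fixes_of_mem θ k.2).inv

theorem omega_eq_zero_right (θ : IrrCharacter K) (ha : a ∈ Subgroup.normalizer (K : Set G))
    (hb : b ∈ Subgroup.normalizer (K : Set G)) (hab : ⁅a, b⁆ ∈ K)
    (hne : ¬ Fixes (extendByZero K θ.1) b) : omega K θ a b = 0 := by
  rw [omega_swap, omega_eq_zero_left θ hb ha ?_ hne, map_zero]
  rw [← commutatorElement_inv]
  exact inv_mem hab

omit [Fintype K] in
/-- Extensions differ by linear characters. -/
theorem exists_twist {I : Subgroup G} (hKI : K ≤ I) (hn : I ≤ Subgroup.normalizer (K : Set G))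
    (θ : IrrCharacter K) (χ χ' : IrrCharacter I)
    (h : ∀ k : K, χ.1 (Subgroup.inclusion hKI k) = θ.1 k)
    (h' : ∀ k : K, χ'.1 (Subgroup.inclusion hKI k) = θ.1 k) :
    ∃ β : I →* ℂ, (∀ k : K, β (Subgroup.inclusion hKI k) = 1) ∧
      ∀ i : I, χ'.1 i = χ.1 i * β i := by
  classical
  haveI := Coprime.normal_subgroupOf_of_le_normalizer hn
  letI := Fintype.ofFinite I
  letI := Fintype.ofFinite (K.subgroupOf I)
  letI := Fintype.ofFinite K
  set K' := K.subgroupOf I
  let θ' : IrrCharacter K' := Char.toSubgroupOf K hKI θ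
  have hr : Char.resFun K' χ.1 = θ'.1 := funext fun x => h ⟨_, Subgroup.mem_subgroupOf.1 x.2⟩
  have hr' : Char.resFun K' χ'.1 = θ'.1 := funext fun x => h' ⟨_, Subgroup.mem_subgroupOf.1 x.2⟩
  obtain ⟨β, hβ⟩ := Char.exists_mulQuotient_eq K' χ (by rw [hr]; exact θ'.2) χ'
    (by rw [hr, hr', Char.classInner_irr_self θ'.2]; exact one_ne_zero)
  have hβ1 : β.1 1 = 1 := by
    have h1 := congrFun hβ 1
    rw [Char.mulQuotient_apply, QuotientGroup.mk_one] at h1
    have e1 := h 1
    have e2 := h' 1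
    rw [map_one] at e1 e2
    rw [e1, e2] at h1
    exact mul_left_cancel₀ (Char.IsIrrCharacter.apply_one_ne_zero θ.2) (h1.trans (mul_one _).symm)
  obtain ⟨f, hf⟩ := Char.IsCharacter.exists_monoidHom (Char.irr_isCharacter β) hβ1
  refine ⟨f.comp (QuotientGroup.mk' K'), fun k => ?_, fun i => ?_⟩
  · show f (QuotientGroup.mk' K' _) = 1
    rw [show QuotientGroup.mk' K' (Subgroup.inclusion hKI k) = 1 from
      (QuotientGroup.eq_one_iff _).2 (Subgroup.mem_subgroupOf.2 k.2), map_one]
  · rw [← hβ, Char.mulQuotient_apply, ← hf]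
    rfl

/-- An extension has norm one on every coset. -/
theorem sum_coset_ext {I : Subgroup G} (hKI : K ≤ I) (hn : I ≤ Subgroup.normalizer (K : Set G))
    (θ : IrrCharacter K) (χ : IrrCharacter I)
    (h : ∀ k : K, χ.1 (Subgroup.inclusion hKI k) = θ.1 k) (i : I) :
    ∑ k : K, χ.1 (i * Subgroup.inclusion hKI k) * conj (χ.1 (i * Subgroup.inclusion hKI k)) =
      (Nat.card K : ℂ) := by
  classical
  haveI := Coprime.normal_subgroupOf_of_le_normalizer hn
  letI := Fintype.ofFinite I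
  letI := Fintype.ofFinite (K.subgroupOf I)
  have hr : IsIrrCharacter (K.subgroupOf I) (Char.resFun (K.subgroupOf I) χ.1) := by
    rw [show Char.resFun (K.subgroupOf I) χ.1 = (Char.toSubgroupOf K hKI θ).1 from
      funext fun x => h ⟨_, Subgroup.mem_subgroupOf.1 x.2⟩]
    exact (Char.toSubgroupOf K hKI θ).2
  rw [← Nat.card_congr (Subgroup.subgroupOfEquivOfLe hKI).toEquiv,
    ← Char.sum_coset_mul_conj (K.subgroupOf I) χ hr i]
  exact (Fintype.sum_equiv (Subgroup.subgroupOfEquivOfLe hKI).toEquiv _ _ fun x => rfl).symm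

/-- Two twists agreeing on a coset agree as scalars. -/
theorem eq_of_mul_ext_eq {I : Subgroup G} (hKI : K ≤ I)
    (hn : I ≤ Subgroup.normalizer (K : Set G)) (θ : IrrCharacter K) (χ : IrrCharacter I)
    (h : ∀ k : K, χ.1 (Subgroup.inclusion hKI k) = θ.1 k) (i : I) {c c' : ℂ}
    (hc : ∀ k : K, c * χ.1 (i * Subgroup.inclusion hKI k) =
      c' * χ.1 (i * Subgroup.inclusion hKI k)) : c = c' := by
  have h1 := congrArg (fun x => c * x) (sum_coset_ext hKI hn θ χ h i)
  have h2 := congrArg (fun x => c' * x) (sum_coset_ext hKI hn θ χ h i)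
  simp only [Finset.mul_sum, ← mul_assoc] at h1 h2
  simp only [hc] at h1
  exact mul_right_cancel₀ (Char.card_ne_zero (G := K)) (h1.symm.trans h2)

theorem conj_mem_of_commutator (hab : ⁅a, b⁆ ∈ K) {I : Subgroup G} (hKI : K ≤ I) (ha : a ∈ I)
    (k : K) (hb : b ∈ Subgroup.normalizer (K : Set G)) : b * (a * k) * b⁻¹ ∈ I := by
  rw [show b * (a * (k : G)) * b⁻¹ = ⁅a, b⁆⁻¹ * a * (b * k * b⁻¹) by
    rw [commutatorElement_def]; group]
  exact mul_mem (mul_mem (inv_mem (hKI hab)) ha) (hKI ((conj_mem_iff hb _).2 k.2))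

/-- The value of `omega` through an extension. -/
theorem omega_eq_scalar (θ : IrrCharacter K) {I : Subgroup G} (hKI : K ≤ I)
    (hn : I ≤ Subgroup.normalizer (K : Set G)) (χ : IrrCharacter I)
    (h : ∀ k : K, χ.1 (Subgroup.inclusion hKI k) = θ.1 k) (ha : a ∈ I)
    (hb : b ∈ Subgroup.normalizer (K : Set G)) (hab : ⁅a, b⁆ ∈ K) {η : ℂ}
    (hη : ∀ k : K, extendByZero I χ.1 (b * (a * k) * b⁻¹) =
      η * extendByZero I χ.1 (a * k)) : omega K θ a b = η := by
  classical
  obtain ⟨d, σ, hσ, hσχ⟩ := χ.2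
  have hθd : θ.1 1 = (d : ℂ) := by
    have h1 := h 1
    rw [map_one, ← hσχ] at h1
    rw [← h1]
    simp
  have hd : (d : ℂ) ≠ 0 := hθd ▸ Char.IsIrrCharacter.apply_one_ne_zero θ.2
  let σK : Representation ℂ K (Fin d → ℂ) := MonoidHom.comp σ (Subgroup.inclusion hKI)
  haveI : σK.IsIrreducible := Char.isIrreducible_of_classInner_eq_one σK (by
    rw [show σK.character = θ.1 from funext fun k => by rw [← h k, ← hσχ]; rfl]
    exact Char.classInner_irr_self θ.2)
  have haN := hn ha
  -- the inner sum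
  have hin : ∀ k : K, ∀ (hy : b * (a * k) * b⁻¹ ∈ I) (hg : a * (k : G) ∈ I),
      (d : ℂ) * ∑ l : K, extendByZero K θ.1 ⁅a * k, b * l⁆ =
        (Nat.card K : ℂ) * (χ.1 ⟨_, hg⟩ * conj (χ.1 ⟨_, hy⟩)) := by
    intro k hy hg
    set g : I := ⟨_, hg⟩
    set y : I := ⟨_, hy⟩
    have hterm : ∀ l : K, extendByZero K θ.1 ⁅a * k, b * l⁆ =
        LinearMap.trace ℂ _ (σ g * (σK (conjK hb l) * σ y⁻¹ * σK (conjK hb l)⁻¹)) := by
      intro l
      have hm := commutator_mul_mem haN hb hab k l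
      rw [show (⁅a * (k : G), b * (l : G)⁆) = ((⟨_, hm⟩ : K) : G) from rfl, ext0_coe, ← h,
        ← hσχ]
      show LinearMap.trace ℂ _ (σ _) = _
      congr 1
      show σ _ = σ g * (σ (Subgroup.inclusion hKI (conjK hb l)) * σ y⁻¹ *
        σ (Subgroup.inclusion hKI (conjK hb l)⁻¹))
      rw [← map_mul, ← map_mul, ← map_mul]
      congr 1
      refine Subtype.ext ?_
      simp only [Subgroup.coe_inclusion, Subgroup.coe_mul, Subgroup.coe_inv, coe_conjK,
        commutatorElement_def, g, y]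
      group
    rw [Finset.sum_congr rfl fun l _ => hterm l,
      Fintype.sum_equiv (conjK hb).toEquiv
        (fun l => LinearMap.trace ℂ _ (σ g * (σK (conjK hb l) * σ y⁻¹ * σK (conjK hb l)⁻¹)))
        (fun l => LinearMap.trace ℂ _ (σ g * (σK l * σ y⁻¹ * σK l⁻¹))) fun l => rfl,
      ← map_sum, ← Finset.mul_sum, ← smul_eq_mul, ← map_smul, ← mul_smul_comm,
      Char.sum_conj_endo_eq_trace σK (σ y⁻¹), mul_smul_comm, mul_one, map_smul, smul_eq_mul,
      Char.IsCharacter.conj_apply (Char.irr_isCharacter χ), ← hσχ]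
    simp only [Representation.character]
    ring
  have hout : pairSum K (extendByZero K θ.1) a b =
      ∑ k : K, η * ((Nat.card K : ℂ) / d) *
        (χ.1 (⟨a, ha⟩ * Subgroup.inclusion hKI k) *
          conj (χ.1 (⟨a, ha⟩ * Subgroup.inclusion hKI k))) := by
    rw [pairSum_eq]
    refine Finset.sum_congr rfl fun k _ => ?_
    have hy := conj_mem_of_commutator hab hKI ha k hb
    have hg : a * (k : G) ∈ I := mul_mem ha (hKI k.2)
    have h1 := congrArg conj (hin k hy hg)
    simp only [map_mul, map_sum, Complex.conj_natCast, Complex.conj_conj] at h1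
    have h2 := hη k
    rw [Char.extendByZero_of_mem _ _ hy, Char.extendByZero_of_mem _ _ hg] at h2
    rw [h2] at h1
    rw [eq_comm, ← mul_right_inj' hd, h1]
    rw [show (⟨a * (k : G), hg⟩ : I) = ⟨a, ha⟩ * Subgroup.inclusion hKI k from rfl]
    field_simp
  rw [omega, hout, ← Finset.mul_sum, sum_coset_ext hKI hn θ χ h, hθd]
  have := Char.card_ne_zero (G := K)
  field_simp

/-- The data used to compute `omega` for a pair fixing `θ`. -/
theorem exists_scalar (θ : IrrCharacter K) {I : Subgroup G} (hI : I = K ⊔ Subgroup.zpowers a)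
    (χ : IrrCharacter I) (hKI : K ≤ I) (h : ∀ k : K, χ.1 (Subgroup.inclusion hKI k) = θ.1 k)
    (ha : a ∈ Subgroup.normalizer (K : Set G)) (hb : b ∈ Subgroup.normalizer (K : Set G))
    (hab : ⁅a, b⁆ ∈ K) (hfb : Fixes (extendByZero K θ.1) b) :
    ∃ η : ℂ, η ^ Nat.card I = 1 ∧ ∀ k : K,
      extendByZero I χ.1 (b * (a * k) * b⁻¹) = η * extendByZero I χ.1 (a * k) := by
  have haI : a ∈ I := hI ▸ Subgroup.mem_sup_right (Subgroup.mem_zpowers a)
  have hn : I ≤ Subgroup.normalizer (K : Set G) :=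
    hI ▸ sup_le Subgroup.le_normalizer (by simpa using ha)
  have hbI : b ∈ Subgroup.normalizer (I : Set G) := by
    have hle : I.map (MulAut.conj b).toMonoidHom ≤ I := by
      rw [Subgroup.map_le_iff_le_comap, hI, sup_le_iff, Subgroup.zpowers_le, ← hI]
      refine ⟨fun k hk => ?_, ?_⟩
      · show b * k * b⁻¹ ∈ I
        exact hKI ((conj_mem_iff hb k).2 hk)
      · show b * a * b⁻¹ ∈ I
        simpa using conj_mem_of_commutator hab hKI haI 1 hb
    have heq : I.map (MulAut.conj b).toMonoidHom = I :=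
      Subgroup.eq_of_le_of_card_ge hle
        (Subgroup.card_map_of_injective (MulAut.conj b).injective).ge
    refine Subgroup.mem_normalizer_iff.2 fun x => ⟨fun hx => ?_, fun hx => ?_⟩
    · exact hle ⟨x, hx, rfl⟩
    · rw [← heq] at hx
      obtain ⟨y, hy, he⟩ := hx
      exact (MulAut.conj b).injective he ▸ hy
  obtain ⟨β, hβK, hβ⟩ := exists_twist hKI hn θ χ (conjIrr hbI χ) h fun k => by
    rw [conjIrr_apply, show conjK hbI (Subgroup.inclusion hKI k) =
      Subgroup.inclusion hKI (conjK hb k) from Subtype.ext rfl, h]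
    exact (fixes_ext0_iff hb θ.1).1 hfb k
  refine ⟨β ⟨a, haI⟩, by rw [← map_pow, pow_card_eq_one', map_one], fun k => ?_⟩
  have hg : a * (k : G) ∈ I := mul_mem haI (hKI k.2)
  have h2 := hβ ⟨_, hg⟩
  rw [conjIrr_apply] at h2
  rw [Char.extendByZero_of_mem I _ hg,
    Char.extendByZero_of_mem I _ (conj_mem_of_commutator hab hKI haI k hb)]
  refine h2.trans ?_
  rw [mul_comm]
  congr 1
  rw [show (⟨_, hg⟩ : I) = ⟨a, haI⟩ * Subgroup.inclusion hKI k from rfl, map_mul, hβK, mul_one]

end Cfsg.Agent.RelMcKay
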