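import Cfsg.Agent.Lib.RelativeMcKay.Core
import Cfsg.Agent.Lib.RelativeMcKay.Count
import Cfsg.Agent.Lib.Clifford.CoprimeExtension
import Cfsg.Agent.S0887

/-!
# The count when a normal `p'`-group times a Sylow `p`-subgroup is normal

`X = K S` with `K` a `p'`-group and `S` a `p`-group, `M = H X` with `H` a `p'`-group normalising
`K` and `S`, and `L` central, split along `K` and `S`.  The characters of `X` of degree prime to `p`
over `ν` are the products of canonical extensions and linear characters of `S`, so the count is a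
sum over `H × H` of commutator sums on `K`, weighted by fixed linear characters of `S`.
-/

set_option autoImplicit false
set_option linter.style.haveILetI false
set_option linter.unusedSectionVars false

namespace Cfsg.Agent.RelMcKay

open Cfsg
open scoped ComplexConjugate commutatorElement

attribute [local instance high] subgroupFintype
attribute [local instance 10] Fintype.ofFinite

universe u

variable {G : Type u} [Group G] [Finite G]

/-- A character irreducible on a smaller subgroup restricts irreducibly. -/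
theorem exists_res_irr {A B C : Subgroup G} (hAB : A ≤ B) (hBC : B ≤ C)
    (hBA : B ≤ Subgroup.normalizer (A : Set G)) (θ : IrrCharacter A) (χ : IrrCharacter C)
    (h : ∀ x : A, χ.1 (Subgroup.inclusion (hAB.trans hBC) x) = θ.1 x) :
    ∃ χ₀ : IrrCharacter B, ∀ x : B, χ₀.1 x = χ.1 (Subgroup.inclusion hBC x) := by
  haveI := Coprime.normal_subgroupOf_of_le_normalizer hBA
  obtain ⟨d, ρ, hρ, hρχ⟩ := χ.2
  let σB : Representation ℂ B (Fin d → ℂ) := MonoidHom.comp ρ (Subgroup.inclusion hBC)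
  let σA : Representation ℂ (A.subgroupOf B) (Fin d → ℂ) :=
    MonoidHom.comp σB (A.subgroupOf B).subtype
  haveI : σA.IsIrreducible := Char.isIrreducible_of_classInner_eq_one σA (by
    rw [show σA.character = (Char.toSubgroupOf A hAB θ).1 from funext fun x => by
      show _ = θ.1 ⟨_, Subgroup.mem_subgroupOf.1 x.2⟩
      rw [← h, ← hρχ]
      rfl]
    exact Char.classInner_irr_self (Char.toSubgroupOf A hAB θ).2)
  exact ⟨⟨σB.character, Char.isIrrCharacter_character σB
    (Clifford.isIrreducible_of_restrict σA σB fun _ => rfl)⟩, fun x => congrFun hρχ _⟩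

theorem inf_eq_bot_of_pGroup {p : ℕ} [hp : Fact p.Prime] {S K : Subgroup G} (hS : IsPGroup p S)
    (hK : ¬ p ∣ Nat.card K) : S ⊓ K = ⊥ := by
  obtain ⟨m, hm⟩ := IsPGroup.iff_card.1 hS
  refine Coprime.disjoint_of_coprime_card ?_
  rw [hm]
  exact ((hp.out.coprime_iff_not_dvd).2 hK).pow_left m

theorem mem_left_of_not_dvd {p : ℕ} [hp : Fact p.Prime] {S K : Subgroup G} (hS : IsPGroup p S)
    (hSK : S ≤ Subgroup.normalizer (K : Set G)) {x : G} (hx : x ∈ K ⊔ S)
    (hxo : ¬ p ∣ orderOf x) : x ∈ K := by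
  rw [sup_comm, Coprime.mem_sup_iff_of_le_normalizer hSK] at hx
  obtain ⟨s, hs, k, hk, rfl⟩ := hx
  set N := Subgroup.normalizer (K : Set G)
  haveI : (K.subgroupOf N).Normal := Coprime.normal_subgroupOf_of_le_normalizer le_rfl
  let π := QuotientGroup.mk' (K.subgroupOf N)
  have hsk : s * k ∈ N := mul_mem (hSK hs) (Subgroup.le_normalizer hk)
  have hπ : π ⟨s * k, hsk⟩ = π ⟨s, hSK hs⟩ :=
    (QuotientGroup.mk_mul_of_mem (s := K.subgroupOf N) (⟨s, hSK hs⟩ : N)
      (b := ⟨k, Subgroup.le_normalizer hk⟩) (Subgroup.mem_subgroupOf.2 hk))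
  have h1 : orderOf (π ⟨s * k, hsk⟩) ∣ orderOf (s * k) := by
    refine (orderOf_map_dvd π _).trans ?_
    rw [← Subgroup.orderOf_coe]
  have h2 : orderOf (π ⟨s, hSK hs⟩) ∣ orderOf s := by
    refine (orderOf_map_dvd π _).trans ?_
    rw [← Subgroup.orderOf_coe]
  rw [hπ] at h1
  obtain ⟨m, hm⟩ := IsPGroup.iff_card.1 hS
  have h3 : orderOf (π ⟨s, hSK hs⟩) = 1 := Nat.eq_one_of_dvd_coprimes
    (((hp.out.coprime_iff_not_dvd).2 hxo).pow_left m)
    (hm ▸ h2.trans (Subgroup.orderOf_dvd_natCard S hs)) h1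
  rw [orderOf_eq_one_iff] at h3
  have hsK : s ∈ K := Subgroup.mem_subgroupOf.1 ((QuotientGroup.eq_one_iff _).1 h3)
  exact mul_mem hsK hk

variable {p : ℕ} [hp : Fact p.Prime]

/-- The count as a double sum over `H`. -/
theorem cnt_mul_eq_sum (M K S H L : Subgroup G) (hS : IsPGroup p S) (hK : ¬ p ∣ Nat.card K)
    (hH : ¬ p ∣ Nat.card H) (hSK : S ≤ Subgroup.normalizer (K : Set G))
    (hKM : K ≤ M) (hSM : S ≤ M) (hHM : H ≤ M)
    (hMX : M ≤ Subgroup.normalizer ((K ⊔ S : Subgroup G) : Set G))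
    (hHS : H ≤ Subgroup.normalizer (S : Set G)) (hHK : H ≤ Subgroup.normalizer (K : Set G))
    (hgen : ∀ g ∈ M, ∃ a ∈ H, ∃ k ∈ K ⊔ S, g = a * k)
    (hL : L ≤ Subgroup.center G) (hsplit : ∀ l ∈ L, ∃ x ∈ L ⊓ K, ∃ y ∈ L ⊓ S, l = x * y)
    (hLM : L ≤ M) (ν : L →* ℂ)
    [DecidablePred fun θ : IrrCharacter K => (∀ s ∈ S, Fixes (extendByZero K θ.1) s) ∧
      Over (Subgroup.inclusion (inf_le_right : L ⊓ K ≤ K))
        (ν.comp (Subgroup.inclusion (inf_le_left : L ⊓ K ≤ L))) θ.1]
    [Fintype {lam : S →* ℂ // ∀ y : G, ∀ (h : y ∈ L) (h' : y ∈ S), lam ⟨y, h'⟩ = ν ⟨y, h⟩}]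
    [∀ a b : G, ∀ lam : S →* ℂ, Decidable (⁅a, b⁆ ∈ K ∧ Fixes (extendByZero S lam) a ∧
      Fixes (extendByZero S lam) b)] :
    (cnt p (Subgroup.inclusion hLM) ν : ℂ) * ((Nat.card H : ℂ) * Nat.card (H ⊓ K : Subgroup G)) =
      ∑ a : H, ∑ b : H, ∑ θ ∈ Finset.univ.filter (fun θ : IrrCharacter K =>
          (∀ s ∈ S, Fixes (extendByZero K θ.1) s) ∧
          Over (Subgroup.inclusion (inf_le_right : L ⊓ K ≤ K))
            (ν.comp (Subgroup.inclusion (inf_le_left : L ⊓ K ≤ L))) θ.1),
        ∑ lam : {lam : S →* ℂ // ∀ y : G, ∀ (h : y ∈ L) (h' : y ∈ S), lam ⟨y, h'⟩ = ν ⟨y, h⟩},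
          if ⁅(a : G), (b : G)⁆ ∈ K ∧ Fixes (extendByZero S lam.1) a ∧
            Fixes (extendByZero S lam.1) b then omega K θ a b else 0 := by
  classical
  set X := K ⊔ S with hX
  have hKX : K ≤ X := le_sup_left
  have hSX : S ≤ X := le_sup_right
  have hXM : X ≤ M := sup_le hKM hSM
  have hLX : L ≤ X := fun l hl => by
    obtain ⟨x, hx, y, hy, rfl⟩ := hsplit l hl
    exact mul_mem (hKX hx.2) (hSX hy.2)
  have hnXK : X ≤ Subgroup.normalizer (K : Set G) := sup_le Subgroup.le_normalizer hSK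
  haveI := Coprime.normal_subgroupOf_of_le_normalizer hnXK
  set K' := K.subgroupOf X with hK'
  have hHX : H ⊓ X = H ⊓ K := le_antisymm
    (fun x hx => ⟨hx.1, mem_left_of_not_dvd hS hSK hx.2
      fun h => hH (h.trans (Subgroup.orderOf_dvd_natCard H hx.1))⟩)
    (inf_le_inf_left H hKX)
  have hdis : S ⊓ K = ⊥ := inf_eq_bot_of_pGroup hS hK
  -- `S` is the quotient
  let f : S →* X ⧸ K' := (QuotientGroup.mk' K').comp (Subgroup.inclusion hSX)
  have hf : Function.Bijective f := by
    refine ⟨(injective_iff_map_eq_one f).2 fun s hs => ?_, fun q => ?_⟩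
    · have h1 : (s : G) ∈ K := Subgroup.mem_subgroupOf.1 ((QuotientGroup.eq_one_iff (Subgroup.inclusion hSX s)).1 hs)
      have h2 : (s : G) ∈ S ⊓ K := ⟨s.2, h1⟩
      rw [hdis, Subgroup.mem_bot] at h2
      exact Subtype.ext h2
    · obtain ⟨⟨x, hx⟩, rfl⟩ := QuotientGroup.mk_surjective q
      obtain ⟨s, hs, k, hk, hsk⟩ :=
        (Coprime.mem_sup_iff_of_le_normalizer hSK).1 (show x ∈ S ⊔ K by rwa [sup_comm])
      refine ⟨⟨s, hs⟩, (QuotientGroup.eq).2 (Subgroup.mem_subgroupOf.2 ?_)⟩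
      show s⁻¹ * x ∈ K
      rw [← hsk, inv_mul_cancel_left]
      exact hk
  let e : S ≃* X ⧸ K' := MulEquiv.ofBijective f hf
  obtain ⟨m, hm⟩ := IsPGroup.iff_card.1 hS
  have hidx : K'.index = p ^ m := by
    rw [Subgroup.index_eq_card, ← hm]
    exact (Nat.card_congr e.toEquiv).symm
  have hcop : Nat.Coprime K'.index (Nat.card K') := by
    rw [hidx, Nat.card_congr (Subgroup.subgroupOfEquivOfLe hKX).toEquiv]
    exact ((hp.out.coprime_iff_not_dvd).2 hK).pow_left m
  let liftLam : (S →* ℂ) → (X →* ℂ) := fun lam =>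
    (lam.comp e.symm.toMonoidHom).comp (QuotientGroup.mk' K')
  have liftS : ∀ (lam : S →* ℂ) (s : S), liftLam lam (Subgroup.inclusion hSX s) = lam s :=
    fun lam s => congrArg lam (e.symm_apply_apply s)
  have liftK : ∀ (lam : S →* ℂ) (k : K), liftLam lam (Subgroup.inclusion hKX k) = 1 := by
    intro lam k
    show lam (e.symm (QuotientGroup.mk' K' (Subgroup.inclusion hKX k))) = 1
    rw [show QuotientGroup.mk' K' (Subgroup.inclusion hKX k) = 1 from
      (QuotientGroup.eq_one_iff _).2 (Subgroup.mem_subgroupOf.2 k.2), map_one, map_one]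
  have hXdec : ∀ x : X, ∃ (s : S) (k : K),
      x = Subgroup.inclusion hSX s * Subgroup.inclusion hKX k := by
    intro x
    obtain ⟨s, hs, k, hk, hsk⟩ :=
      (Coprime.mem_sup_iff_of_le_normalizer hSK).1 (show (x : G) ∈ S ⊔ K by
        rw [sup_comm]; exact x.2)
    exact ⟨⟨s, hs⟩, ⟨k, hk⟩, Subtype.ext hsk.symm⟩
  -- canonical extensions
  have hext : ∀ θ : IrrCharacter K, (∀ s ∈ S, Fixes (extendByZero K θ.1) s) →
      ∃ ψ : IrrCharacter X, (∀ k : K, ψ.1 (Subgroup.inclusion hKX k) = θ.1 k) ∧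
        (∀ (y : G) (hy : y ∈ L) (hy' : y ∈ S) (x : X),
          ψ.1 (⟨y, hSX hy'⟩ * x) = ψ.1 x) ∧
        ∀ a ∈ H, Fixes (extendByZero K θ.1) a → Fixes (extendByZero X ψ.1) a := by
    intro θ hθ
    have hstab : X ≤ stab (extendByZero K θ.1) :=
      sup_le (fun k hk => fixes_of_mem θ hk) hθ
    obtain ⟨ψ, ⟨hψ, hdet⟩, huniq⟩ := Clifford.existsUnique_extension_of_coprime_card
      (Char.toSubgroupOf K hKX θ) (fun g => funext fun x => by
        exact (fixes_ext0_iff (hnXK g.2) θ.1).1 (hstab g.2) ⟨_, Subgroup.mem_subgroupOf.1 x.2⟩)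
      hcop
    have hres : ∀ k : K, ψ.1 (Subgroup.inclusion hKX k) = θ.1 k := fun k =>
      hψ ⟨⟨k, hKX k.2⟩, k.2⟩
    refine ⟨ψ, hres, fun y hy hy' x => ?_, fun a ha hfa => ?_⟩
    · obtain ⟨d, ρ, hρ, hρψ⟩ := ψ.2
      haveI := hρ
      obtain ⟨c, hc⟩ := CharInt.exists_smul_one_of_mem_center (ρ := ρ)
        (z := (⟨y, hSX hy'⟩ : X))
        (central_inclusion hLX hL ⟨y, hy⟩)
      have hd : ψ.1 1 = (d : ℂ) := by rw [← hρψ]; simp
      have hdθ : θ.1 1 = (d : ℂ) := by rw [← hd, ← hres 1, map_one]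
      have hd0 : d ≠ 0 := fun h => Char.IsIrrCharacter.apply_one_ne_zero θ.2 (by
        rw [hdθ, h, Nat.cast_zero])
      haveI := Char.nontrivial_of_isIrreducible ρ
      have hcp : c ^ p ^ m = 1 := by
        have h1 : (⟨y, hSX hy'⟩ : X) ^ p ^ m = 1 := Subtype.ext (by
          rw [SubmonoidClass.coe_pow, ← hm]
          exact congrArg Subtype.val (pow_card_eq_one' (x := (⟨y, hy'⟩ : S))))
        have h2 := congrArg ρ h1
        rw [map_pow, hc, smul_pow, one_pow, map_one] at h2
        exact smul_left_injective ℂ (one_ne_zero : (1 : Module.End ℂ (Fin d → ℂ)) ≠ 0)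
          (h2.trans (one_smul ℂ _).symm)
      have hcd : c ^ (d * Nat.card K') = 1 := by
        have h3 := hdet ⟨y, hSX hy'⟩
        rw [Clifford.detChar_eq ψ ρ hρψ, hc, LinearMap.det_smul, map_one, mul_one,
          Module.finrank_fin_fun, ← pow_mul] at h3
        exact h3
      have hdK : d ∣ Nat.card K' := by
        rw [Nat.card_congr (Subgroup.subgroupOfEquivOfLe hKX).toEquiv]
        have h4 := Char.charDegree_dvd_card θ
        rwa [show charDegree θ.1 = d from Nat.cast_injective (R := ℂ)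
          ((Char.charDegree_cast θ).trans hdθ)] at h4
      have hc1 : c = 1 := by
        have hco : Nat.Coprime (p ^ m) (d * Nat.card K') := by
          rw [← hidx]
          exact Nat.Coprime.mul_right (hcop.coprime_dvd_right hdK) hcop
        have := pow_gcd_eq_one.2 ⟨hcp, hcd⟩
        rwa [hco.gcd_eq_one, pow_one] at this
      rw [← hρψ]
      simp [Representation.character, map_mul, hc, hc1]
    · have haX : a ∈ Subgroup.normalizer (X : Set G) := hMX (hHM ha)
      refine (fixes_iff_conjIrr haX ψ).2 (huniq _ ⟨fun x => ?_, fun g => ?_⟩)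
      · rw [conjIrr_apply]
        have h1 := (fixes_ext0_iff (hHK ha) θ.1).1 hfa ⟨_, Subgroup.mem_subgroupOf.1 x.2⟩
        rw [← hres] at h1
        exact h1
      · rw [Clifford.detChar_comp ψ (conjK haX).toMonoidHom (conjIrr haX ψ) (fun _ => rfl)]
        exact hdet _
  choose ext hextK hextL hextH using hext
  -- the characters of `X`
  set Θ := Finset.univ.filter (fun θ : IrrCharacter K =>
    (∀ s ∈ S, Fixes (extendByZero K θ.1) s) ∧
      Over (Subgroup.inclusion (inf_le_right : L ⊓ K ≤ K))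
        (ν.comp (Subgroup.inclusion (inf_le_left : L ⊓ K ≤ L))) θ.1) with hΘ
  set Ψ : Finset (IrrCharacter X) := Finset.univ.filter fun ψ =>
    ¬ p ∣ charDegree ψ.1 ∧ Over (Subgroup.inclusion hLX) ν ψ.1 with hΨ
  let Lam := {lam : S →* ℂ // ∀ y : G, ∀ (h : y ∈ L) (h' : y ∈ S), lam ⟨y, h'⟩ = ν ⟨y, h⟩}
  let mkψ : ∀ θ : IrrCharacter K, (∀ s ∈ S, Fixes (extendByZero K θ.1) s) → (S →* ℂ) → IrrCharacter X :=
    fun θ hθ lam => ⟨⇑(liftLam lam) * (ext θ hθ).1,
      Char.IsIrrCharacter.mul_linear (ext θ hθ).2 (liftLam lam)⟩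
  have hmkK : ∀ θ hθ lam (k : K), (mkψ θ hθ lam).1 (Subgroup.inclusion hKX k) = θ.1 k :=
    fun θ hθ lam k => by
      show liftLam lam _ * _ = _
      rw [liftK, hextK, one_mul]
  have hKcentral := central_inclusion (inf_le_right : L ⊓ K ≤ K)
    ((inf_le_left : L ⊓ K ≤ L).trans hL)
  have hsum : ∀ F : IrrCharacter X → ℂ, ∑ ψ ∈ Ψ, F ψ =
      ∑ θ ∈ Θ.attach, ∑ lam : Lam, F (mkψ θ.1 (Finset.mem_filter.1 θ.2).2.1 lam.1) := by
    intro F
    rw [← Finset.sum_product']
    refine (Finset.sum_bij (fun q _ => mkψ q.1.1 (Finset.mem_filter.1 q.1.2).2.1 q.2.1)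
      ?_ ?_ ?_ (fun q _ => rfl)).symm
    · rintro ⟨⟨θ, hθ⟩, lam⟩ -
      obtain ⟨hθS, hθν⟩ := (Finset.mem_filter.1 hθ).2
      refine Finset.mem_filter.2 ⟨Finset.mem_univ _, fun hd => ?_, ?_⟩
      · refine hK (hd.trans ?_)
        rw [show charDegree (mkψ θ hθS lam.1).1 = charDegree θ.1 from
          Nat.cast_injective (R := ℂ) ((Char.charDegree_cast _).trans
            (Eq.trans (by rw [← hmkK θ hθS lam.1 1, map_one]) (Char.charDegree_cast θ).symm))]
        exact Char.charDegree_dvd_card θ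
      · refine (over_central_iff _ (central_inclusion hLX hL) ν (mkψ θ hθS lam.1)).2 ?_
        have hKν := (over_central_iff _ hKcentral _ θ).1 hθν
        obtain ⟨ε, hε⟩ := exists_central_character _ (central_inclusion hLX hL) (mkψ θ hθS lam.1)
        have hne := Char.IsIrrCharacter.apply_one_ne_zero (mkψ θ hθS lam.1).2
        have hone : (mkψ θ hθS lam.1).1 1 = θ.1 1 := by
          rw [← hmkK θ hθS lam.1 1, map_one]
        have hεν : ε = ν := by
          refine MonoidHom.ext fun l => ?_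
          obtain ⟨x, hx, y, hy, hl⟩ := hsplit l l.2
          rw [show l = ⟨x, hx.1⟩ * ⟨y, hy.1⟩ from Subtype.ext hl, map_mul ε, map_mul ν]
          congr 1
          · refine mul_right_cancel₀ hne ?_
            have e1 := hε ⟨x, hx.1⟩ 1
            rw [mul_one, show Subgroup.inclusion hLX ⟨x, hx.1⟩ =
              Subgroup.inclusion hKX ⟨x, hx.2⟩ from Subtype.ext rfl, hmkK] at e1
            rw [← e1, hone]
            have e3 := hKν ⟨x, hx⟩ 1
            rw [mul_one] at e3
            exact e3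
          · refine mul_right_cancel₀ hne ?_
            have e1 := hε ⟨y, hy.1⟩ 1
            rw [mul_one] at e1
            rw [← e1]
            show liftLam lam.1 (Subgroup.inclusion hLX ⟨y, hy.1⟩) *
              (ext θ hθS).1 (Subgroup.inclusion hLX ⟨y, hy.1⟩) = _
            have e2 := hextL θ hθS y hy.1 hy.2 1
            rw [mul_one] at e2
            rw [show Subgroup.inclusion hLX ⟨y, hy.1⟩ = (⟨y, hSX hy.2⟩ : X) from rfl, e2,
              show liftLam lam.1 ⟨y, hSX hy.2⟩ = lam.1 ⟨y, hy.2⟩ from liftS _ ⟨y, hy.2⟩,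
              lam.2 y hy.1 hy.2, hone, ← hextK θ hθS 1, map_one]
        intro l g
        rw [hε, hεν]
    · rintro ⟨⟨θ, hθ⟩, lam⟩ - ⟨⟨θ', hθ'⟩, lam'⟩ - heq
      have hval := congrArg Subtype.val heq
      have hθeq : θ = θ' := Subtype.ext (funext fun k => by
        have := congrFun hval (Subgroup.inclusion hKX k)
        rwa [hmkK, hmkK] at this)
      subst hθeq
      have hres : IsIrrCharacter K' (Char.resFun K' (ext θ (Finset.mem_filter.1 hθ).2.1).1) := by
        rw [show Char.resFun K' (ext θ (Finset.mem_filter.1 hθ).2.1).1 =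
          (Char.toSubgroupOf K hKX θ).1 from
          funext fun x => hextK θ _ ⟨_, Subgroup.mem_subgroupOf.1 x.2⟩]
        exact (Char.toSubgroupOf K hKX θ).2
      have hle := Char.mul_linear_injective K' (ext θ (Finset.mem_filter.1 hθ).2.1) hres
        (a := liftLam lam.1) (b := liftLam lam'.1)
        (fun n hn => liftK lam.1 ⟨(n : G), Subgroup.mem_subgroupOf.1 hn⟩)
        (fun n hn => liftK lam'.1 ⟨(n : G), Subgroup.mem_subgroupOf.1 hn⟩)
        (fun g => by rw [mul_comm, mul_comm _ (liftLam lam'.1 g)]; exact congrFun hval g)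
      have hlam : lam = lam' := Subtype.ext (MonoidHom.ext fun s => by
        rw [← liftS lam.1, ← liftS lam'.1, hle])
      rw [hlam]
    · intro ψ hψ
      obtain ⟨hd, hν⟩ := (Finset.mem_filter.1 hψ).2
      obtain ⟨θ, hθψ⟩ := exists_over hKX hnXK ψ
      have hfixS : ∀ s ∈ S, Fixes (extendByZero K θ.1) s := by
        have h1 := (degree_dvd_of_over hKX hnXK θ ψ hθψ).2
        have h2 : numConj X θ ∣ p ^ m := by
          rw [numConj_eq_card_orbit hKX hnXK θ, ← Char.index_inertia, ← hidx]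
          exact Subgroup.index_dvd_of_le (Char.irr_le_inertia _ _)
        have h3 : numConj X θ = 1 := by
          obtain ⟨i, -, hi⟩ := (Nat.dvd_prime_pow hp.out).1 h2
          rcases Nat.eq_zero_or_pos i with rfl | hi0
          · simpa using hi
          · exact absurd ((hi ▸ dvd_pow_self p hi0.ne' : p ∣ numConj X θ).trans h1) hd
        intro s hs
        refine (fixes_iff_conjIrr (hnXK (hSX hs)) θ).2 ?_
        have h4 : Subsingleton {η : IrrCharacter K // ∃ g ∈ X, ConjBy g θ η} :=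
          (Nat.card_eq_one_iff_unique.1 h3).1
        exact congrArg Subtype.val (h4.elim
          ⟨conjIrr (hnXK (hSX hs)) θ, s, hSX hs, (conjBy_iff_conjIrr _ _ _).2 rfl⟩
          ⟨θ, 1, one_mem X, conjBy_one θ⟩)
      have hres : Char.resFun K' (ext θ hfixS).1 = (Char.toSubgroupOf K hKX θ).1 :=
        funext fun x => hextK θ _ ⟨_, Subgroup.mem_subgroupOf.1 x.2⟩
      obtain ⟨β, hβ⟩ := Char.exists_mulQuotient_eq K' (ext θ hfixS)
        (by rw [hres]; exact (Char.toSubgroupOf K hKX θ).2) ψ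
        (by rw [hres]; exact (over_inclusion_iff hKX θ _).1 hθψ)
      have hdψ : charDegree ψ.1 = charDegree θ.1 * charDegree β.1 := by
        apply Nat.cast_injective (R := ℂ)
        push_cast
        rw [Char.charDegree_cast, Char.charDegree_cast, Char.charDegree_cast, ← hβ,
          Char.mulQuotient_apply, QuotientGroup.mk_one, ← hextK θ hfixS 1, map_one]
      have hβ1 : β.1 1 = 1 := by
        have h1 : charDegree β.1 ∣ p ^ m := by
          rw [← hidx, Subgroup.index_eq_card]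
          exact Char.charDegree_dvd_card β
        obtain ⟨i, -, hi⟩ := (Nat.dvd_prime_pow hp.out).1 h1
        rcases Nat.eq_zero_or_pos i with rfl | hi0
        · rw [← Char.charDegree_cast, hi, pow_zero, Nat.cast_one]
        · exact absurd (hdψ ▸ dvd_mul_of_dvd_right (hi ▸ dvd_pow_self p hi0.ne') _) hd
      obtain ⟨f', hf'⟩ := Char.IsCharacter.exists_monoidHom (Char.irr_isCharacter β) hβ1
      let lam₀ : S →* ℂ := f'.comp e.toMonoidHom
      have hlift : ∀ x : X, liftLam lam₀ x = β.1 (x : X ⧸ K') := fun x => by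
        rw [← hf']
        exact congrArg f' (e.apply_symm_apply _)
      have hνiff := (over_central_iff _ (central_inclusion hLX hL) ν ψ).1 hν
      have hθν : Over (Subgroup.inclusion (inf_le_right : L ⊓ K ≤ K))
          (ν.comp (Subgroup.inclusion (inf_le_left : L ⊓ K ≤ L))) θ.1 := by
        refine (over_central_iff _ hKcentral _ θ).2 fun l g => ?_
        have h5 := hνiff (Subgroup.inclusion inf_le_left l) (Subgroup.inclusion hKX g)
        have hval : ∀ k : K, ψ.1 (Subgroup.inclusion hKX k) = θ.1 k := fun k => by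
          rw [← hβ, Char.mulQuotient_apply, hextK,
            (QuotientGroup.eq_one_iff (Subgroup.inclusion hKX k)).2 (Subgroup.mem_subgroupOf.2 k.2),
            hβ1, mul_one]
        rw [show Subgroup.inclusion hLX (Subgroup.inclusion inf_le_left l) *
          Subgroup.inclusion hKX g = Subgroup.inclusion hKX (Subgroup.inclusion inf_le_right l * g)
          from Subtype.ext rfl, hval, hval] at h5
        exact h5
      have hlam : ∀ (y : G) (h : y ∈ L) (h' : y ∈ S), lam₀ ⟨y, h'⟩ = ν ⟨y, h⟩ := by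
        intro y h h'
        have h6 := hνiff ⟨y, h⟩ 1
        rw [mul_one, ← hβ, Char.mulQuotient_apply, Char.mulQuotient_apply, QuotientGroup.mk_one,
          hβ1, mul_one] at h6
        have h7 := hextL θ hfixS y h h' 1
        rw [mul_one] at h7
        rw [show Subgroup.inclusion hLX ⟨y, h⟩ = (⟨y, hSX h'⟩ : X) from rfl, h7,
          mul_comm (ν _)] at h6
        rw [← liftS lam₀, show Subgroup.inclusion hSX ⟨y, h'⟩ = (⟨y, hSX h'⟩ : X) from rfl, hlift]
        exact mul_left_cancel₀ (Char.IsIrrCharacter.apply_one_ne_zero (ext θ hfixS).2) h6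
      refine ⟨(⟨θ, Finset.mem_filter.2 ⟨Finset.mem_univ _, hfixS, hθν⟩⟩, ⟨lam₀, hlam⟩),
        Finset.mem_product.2 ⟨Finset.mem_attach _ _, Finset.mem_univ _⟩, Subtype.ext (funext fun x => ?_)⟩
      show liftLam lam₀ x * (ext θ _).1 x = ψ.1 x
      rw [hlift, ← hβ, Char.mulQuotient_apply, mul_comm]
  -- the count over `X`
  have hrel : X.relIndex M ∣ Nat.card H := by
    have h1 := card_mul_card_inf hXM hHM hgen
    have h2 : Nat.card M * Nat.card (H ⊓ X : Subgroup G) = Nat.card H * Nat.card X := by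
      exact_mod_cast h1
    have h3 : Nat.card X * X.relIndex M = Nat.card M := by
      rw [← Coprime.card_subgroupOf hXM]
      exact (X.subgroupOf M).card_mul_index
    refine ⟨Nat.card (H ⊓ X : Subgroup G), Nat.eq_of_mul_eq_mul_left (Nat.card_pos (α := X)) ?_⟩
    rw [← mul_assoc, h3, h2, mul_comm]
  have hXcentral := central_inclusion hLX hL
  have hΨconj : ∀ ψ ∈ Ψ, ∀ η : IrrCharacter X, ∀ g ∈ M, ConjBy g ψ η → η ∈ Ψ := by
    intro ψ hψ η g hg hgη
    obtain ⟨hd, hν⟩ := (Finset.mem_filter.1 hψ).2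
    rw [(conjBy_iff_conjIrr (hMX hg) ψ η).1 hgη]
    refine Finset.mem_filter.2 ⟨Finset.mem_univ _, ?_, (over_central_iff _ hXcentral ν _).2 ?_⟩
    · have : charDegree (conjIrr (hMX hg) ψ).1 = charDegree ψ.1 := by
        apply Nat.cast_injective (R := ℂ)
        rw [Char.charDegree_cast, Char.charDegree_cast, conjIrr_apply, map_one]
      rwa [this]
    · intro l x
      have h8 := (over_central_iff _ hXcentral ν ψ).1 hν l (conjK (hMX hg) x)
      rw [conjIrr_apply, conjIrr_apply, map_mul (conjK (hMX hg)),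
        show conjK (hMX hg) (Subgroup.inclusion hLX l) = Subgroup.inclusion hLX l from
          Subtype.ext (by
            rw [coe_conjK, Subgroup.coe_inclusion, Subgroup.mem_center_iff.1 (hL l.2) g,
              mul_inv_cancel_right])]
      exact h8
  have hcover : ∀ χ : IrrCharacter M, ¬ p ∣ charDegree χ.1 →
      Over (Subgroup.inclusion (hLX.trans hXM)) ν χ.1 →
      ∃ ψ ∈ Ψ, Over (Subgroup.inclusion hXM) ψ.1 χ.1 := by
    intro χ hd hν
    obtain ⟨ψ, hψ⟩ := exists_over hXM hMX χ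
    exact ⟨ψ, Finset.mem_filter.2 ⟨Finset.mem_univ _,
      fun h => hd (h.trans (degree_dvd_of_over hXM hMX ψ χ hψ).1),
      (over_central_trans hLX hXM hL ν ψ χ hψ).1 hν⟩, hψ⟩
  have hcnt : (cnt p (Subgroup.inclusion hLM) ν : ℂ) =
      ∑ ψ ∈ Ψ, (Nat.card {χ : IrrCharacter M // Over (Subgroup.inclusion hXM) ψ.1 χ.1} : ℂ) /
        numConj M ψ := by
    rw [show Subgroup.inclusion hLM = Subgroup.inclusion (hLX.trans hXM) from rfl,
      cnt_eq_sum hLX hXM hMX hL ν p Ψ (fun ψ hψ => (Finset.mem_filter.1 hψ).2.2) hcover]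
    refine Finset.sum_congr rfl fun ψ hψ => ?_
    congr 2
    · refine Nat.card_congr (Equiv.subtypeEquivRight fun χ => and_iff_right_of_imp fun hover => ?_)
      haveI := Coprime.normal_subgroupOf_of_le_normalizer hMX
      have hd := (Finset.mem_filter.1 hψ).2.1
      obtain ⟨h9, h10⟩ := S0887.result (X.subgroupOf M) χ.1 χ.2
        (Char.toSubgroupOf X hXM ψ).1 (Char.toSubgroupOf X hXM ψ).2
        ((over_inclusion_iff hXM ψ _).1 hover) (charDegree χ.1) (charDegree ψ.1)
        (Char.charDegree_cast χ).symm ((congrArg ψ.1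
          (map_one (Subgroup.subgroupOfEquivOfLe hXM))).trans (Char.charDegree_cast ψ).symm)
      intro hpd
      rw [← Nat.div_mul_cancel h9] at hpd
      rcases hp.out.dvd_mul.1 hpd with h | h
      · exact hH ((h.trans h10).trans hrel)
      · exact hd h
    · exact Nat.card_congr (Equiv.subtypeEquivRight fun η =>
        ⟨fun h => h.2, fun ⟨g, hg, hgη⟩ => ⟨hΨconj ψ hψ η g hg hgη, g, hg, hgη⟩⟩)
  -- the summands
  have hterm : ∀ (θ : IrrCharacter K) (hθ : ∀ s ∈ S, Fixes (extendByZero K θ.1) s)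
      (lam : S →* ℂ) (a b : H),
      omega X (mkψ θ hθ lam) a b = if ⁅(a : G), (b : G)⁆ ∈ K ∧ Fixes (extendByZero S lam) a ∧
        Fixes (extendByZero S lam) b then omega K θ a b else 0 := by
    intro θ hθ lam a b
    set ψ := mkψ θ hθ lam with hψdef
    have hnX : ∀ x : H, (x : G) ∈ Subgroup.normalizer (X : Set G) := fun x => hMX (hHM x.2)
    have hres := hmkK θ hθ lam
    have hfix1 : ∀ x : H, Fixes (extendByZero X ψ.1) x → Fixes (extendByZero K θ.1) x := by
      intro x hx
      refine (fixes_ext0_iff (hHK x.2) θ.1).2 fun k => ?_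
      rw [← hres, ← hres]
      exact (fixes_ext0_iff (hnX x) ψ.1).1 hx (Subgroup.inclusion hKX k)
    have hlamX : ∀ x : H, Fixes (extendByZero S lam) x →
        ∀ y : X, liftLam lam (conjK (hnX x) y) = liftLam lam y := by
      intro x hx y
      obtain ⟨s, k, rfl⟩ := hXdec y
      rw [map_mul (conjK (hnX x)), map_mul (liftLam lam), map_mul (liftLam lam),
        show conjK (hnX x) (Subgroup.inclusion hSX s) =
          Subgroup.inclusion hSX (conjK (hHS x.2) s) from Subtype.ext rfl,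
        show conjK (hnX x) (Subgroup.inclusion hKX k) =
          Subgroup.inclusion hKX (conjK (hHK x.2) k) from Subtype.ext rfl,
        liftS, liftS, liftK, liftK, (fixes_ext0_iff (hHS x.2) (lam : S → ℂ)).1 hx s]
    have hfix2 : ∀ x : H, Fixes (extendByZero X ψ.1) x → Fixes (extendByZero S lam) x := by
      intro x hx
      have h0 := (fixes_ext0_iff (hnX x) (ext θ hθ).1).1 (hextH θ hθ x x.2 (hfix1 x hx))
      have hres' : IsIrrCharacter K' (Char.resFun K' (ext θ hθ).1) := by
        rw [show Char.resFun K' (ext θ hθ).1 = (Char.toSubgroupOf K hKX θ).1 from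
          funext fun y => hextK θ _ ⟨_, Subgroup.mem_subgroupOf.1 y.2⟩]
        exact (Char.toSubgroupOf K hKX θ).2
      have hle := Char.mul_linear_injective K' (ext θ hθ) hres'
        (a := (liftLam lam).comp (conjK (hnX x)).toMonoidHom) (b := liftLam lam)
        (fun n hn => by
          show liftLam lam (conjK (hnX x) n) = 1
          rw [show conjK (hnX x) n = Subgroup.inclusion hKX
            (conjK (hHK x.2) ⟨(n : G), Subgroup.mem_subgroupOf.1 hn⟩) from Subtype.ext rfl, liftK])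
        (fun n hn => liftK lam ⟨(n : G), Subgroup.mem_subgroupOf.1 hn⟩)
        (fun g => by
          have h1 := (fixes_ext0_iff (hnX x) ψ.1).1 hx g
          change liftLam lam _ * (ext θ hθ).1 _ = liftLam lam g * (ext θ hθ).1 g at h1
          rw [h0, mul_comm, mul_comm (liftLam lam g)] at h1
          exact h1)
      refine (fixes_ext0_iff (hHS x.2) (lam : S → ℂ)).2 fun s => ?_
      have h2 := DFunLike.congr_fun hle (Subgroup.inclusion hSX s)
      rw [liftS] at h2
      rw [← liftS lam, ← h2]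
      exact congrArg (liftLam lam) (Subtype.ext rfl)
    have hfix3 : ∀ x : H, Fixes (extendByZero K θ.1) x → Fixes (extendByZero S lam) x →
        Fixes (extendByZero X ψ.1) x := by
      intro x h1 h2
      refine (fixes_ext0_iff (hnX x) ψ.1).2 fun y => ?_
      show liftLam lam _ * (ext θ hθ).1 _ = liftLam lam y * (ext θ hθ).1 y
      rw [hlamX x h2, (fixes_ext0_iff (hnX x) (ext θ hθ).1).1 (hextH θ hθ x x.2 h1)]
    by_cases habX : ⁅(a : G), (b : G)⁆ ∈ X
    swap
    · rw [if_neg fun h => habX (hKX h.1), omega, pairSum_eq, Finset.sum_eq_zero, mul_zero]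
      intro k _
      refine Finset.sum_eq_zero fun l _ => ?_
      rw [Char.extendByZero_of_notMem, map_zero]
      intro h
      refine habX ?_
      simpa [mul_assoc] using commutator_mul_mem (mul_mem_normalizer (hnX a) k)
        (mul_mem_normalizer (hnX b) l) h k⁻¹ l⁻¹
    have hab : ⁅(a : G), (b : G)⁆ ∈ K := mem_left_of_not_dvd hS hSK habX fun h => by
      refine hH (h.trans (Subgroup.orderOf_dvd_natCard H ?_))
      rw [commutatorElement_def]
      exact H.mul_mem (H.mul_mem (H.mul_mem a.2 b.2) (H.inv_mem a.2)) (H.inv_mem b.2)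
    by_cases hfa : Fixes (extendByZero X ψ.1) (a : G)
    swap
    · rw [omega_eq_zero_left ψ (hnX a) (hnX b) habX hfa]
      split_ifs with h
      · rw [omega_eq_zero_left θ (hHK a.2) (hHK b.2) hab fun h' => hfa (hfix3 a h' h.2.1)]
      · rfl
    by_cases hfb : Fixes (extendByZero X ψ.1) (b : G)
    swap
    · rw [omega_eq_zero_right ψ (hnX a) (hnX b) habX hfb]
      split_ifs with h
      · rw [omega_eq_zero_right θ (hHK a.2) (hHK b.2) hab fun h' => hfb (hfix3 b h' h.2.2)]
      · rfl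
    rw [if_pos ⟨hab, hfix2 a hfa, hfix2 b hfb⟩]
    set I := X ⊔ Subgroup.zpowers (a : G) with hI
    set I₀ := K ⊔ Subgroup.zpowers (a : G) with hI₀
    have hXI : X ≤ I := le_sup_left
    have hKI₀ : K ≤ I₀ := le_sup_left
    have hI₀I : I₀ ≤ I := sup_le_sup_right hKX _
    obtain ⟨χ, hχ⟩ : ∃ χ : IrrCharacter I, ∀ k : X, χ.1 (Subgroup.inclusion hXI k) = ψ.1 k :=
      exists_ext X ψ (hnX a) hfa
    have hχK : ∀ k : K, χ.1 (Subgroup.inclusion (hKI₀.trans hI₀I) k) = θ.1 k := fun k => by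
      rw [← hres k, ← hχ]
      rfl
    obtain ⟨χ₀, hχ₀⟩ := exists_res_irr hKI₀ hI₀I (le_normalizer_sup_zpowers (hHK a.2)) θ χ hχK
    obtain ⟨η, -, hη⟩ := exists_scalar ψ hI χ hXI hχ (hnX a) (hnX b) habX hfb
    rw [omega_eq_scalar ψ hXI (le_normalizer_sup_zpowers (hnX a)) χ hχ
        (Subgroup.mem_sup_right (Subgroup.mem_zpowers _)) (hnX b) habX hη,
      omega_eq_scalar θ hKI₀ (le_normalizer_sup_zpowers (hHK a.2)) χ₀
        (fun k => (hχ₀ _).trans (hχK k)) (Subgroup.mem_sup_right (Subgroup.mem_zpowers _))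
        (hHK b.2) hab fun k => ?_]
    have hx : (a : G) * k ∈ I₀ :=
      mul_mem (Subgroup.mem_sup_right (Subgroup.mem_zpowers _)) (hKI₀ k.2)
    have hy : (b : G) * (a * k) * (b : G)⁻¹ ∈ I₀ :=
      conj_mem_of_commutator hab hKI₀ (Subgroup.mem_sup_right (Subgroup.mem_zpowers _)) k (hHK b.2)
    have e1 := hη (Subgroup.inclusion hKX k)
    rw [Subgroup.coe_inclusion, Char.extendByZero_of_mem I _ (hI₀I hx),
      Char.extendByZero_of_mem I _ (hI₀I hy)] at e1
    rw [Char.extendByZero_of_mem I₀ _ hx, Char.extendByZero_of_mem I₀ _ hy, hχ₀, hχ₀]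
    exact e1
  rw [hcnt, Finset.sum_mul, ← hHX,
    Finset.sum_congr rfl fun ψ _ => card_over_div_omega hXM hHM hgen hMX ψ, hsum,
    Finset.sum_congr rfl fun θ _ => Finset.sum_congr rfl fun lam _ =>
      Finset.sum_congr rfl fun a _ => Finset.sum_congr rfl fun b _ =>
        hterm θ.1 (Finset.mem_filter.1 θ.2).2.1 lam.1 a b]
  rw [Finset.sum_congr rfl fun θ _ => Finset.sum_comm, Finset.sum_comm]
  refine Finset.sum_congr rfl fun a _ => ?_
  rw [Finset.sum_congr rfl fun θ _ => Finset.sum_comm, Finset.sum_comm]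
  refine Finset.sum_congr rfl fun b _ => ?_
  exact Finset.sum_attach Θ fun θ => ∑ lam : Lam,
    if ⁅(a : G), (b : G)⁆ ∈ K ∧ Fixes (extendByZero S lam.1) a ∧
      Fixes (extendByZero S lam.1) b then omega K θ a b else 0

end Cfsg.Agent.RelMcKay
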